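import Mathlib

/-!
Distinguishing two centraliser orders by their part in the characteristic.
-/

set_option autoImplicit false

namespace CfsgLib.ChevInvol

theorem coprime_pow_sub_one {q k : ℕ} (hq : 1 ≤ q) (hk : 0 < k) : Nat.Coprime q (q ^ k - 1) := by
  obtain ⟨j, rfl⟩ : ∃ j, k = j + 1 := ⟨k - 1, by omega⟩
  refine Nat.coprime_of_dvd' fun p _ h1 h2 => ?_
  have h3 : p ∣ q ^ (j + 1) := dvd_pow h1 (by omega)
  have h4 := Nat.dvd_sub h3 h2
  rwa [Nat.sub_sub_self (Nat.one_le_pow _ _ hq)] at h4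

theorem ne_of_coprime {q a d : ℕ} (hq : 2 ≤ q) (hd : 0 < d) {A B : ℕ} (hB : Nat.Coprime q B) :
    q ^ (a + d) * A ≠ q ^ a * B := by
  intro h
  rw [pow_add, mul_assoc] at h
  have h1 := Nat.eq_of_mul_eq_mul_left (pow_pos (by omega) a) h
  have h2 : q ∣ B := h1 ▸ (dvd_pow_self q hd.ne').mul_right A
  have := Nat.eq_one_of_dvd_coprimes hB dvd_rfl h2
  omega

end CfsgLib.ChevInvol
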