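import Cfsg.Agent.Lib.ChevInvol.SubData
import Cfsg.Agent.Lib.ChevTorusCent.Basic

/-!
The order of the centraliser of a torus involution.
-/

set_option autoImplicit false
set_option linter.unusedSectionVars false

namespace CfsgLib.ChevInvol

open Cfsg.Lie CfsgLib.Chev CfsgLib.ChevCent CfsgLib.ChevTorusCent

variable {D : ChevalleyDatum} {T : Tabs} {F : Type*} [Field F]

/-- the torus involution of `b` -/
noncomputable def tB (D : ChevalleyDatum) (T : Tabs) (F : Type*) [Field F] (b : Fin D.rank → Bool) : GL D.Idx F :=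
  torus D T F (signChar D F b)

section
variable (hc : Checked D T)
include hc

theorem reflChars_fix_of_mem {b : Fin D.rank → Bool} {L : List (Fin D.rank)}
    (h : permOf hc L ∈ gamB hc b) : reflChars L (signChar D F b) = signChar D F b := by
  funext j
  have h' := (inv_mem h).2 ⟨D.simple j.val, simple_lt hc j.2⟩
  have e : rv D T (((permOf hc L)⁻¹ ⟨D.simple j.val, simple_lt hc j.2⟩ : Fin D.nroots)).val =
      refls D L.reverse (Pi.single j 1) := by
    rw [← rv_sigs_simple hc]; rfl
  rw [e, rv_simple hc] at h'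
  have hc1 := chi_reflChars hc L (signChar D F b) (Pi.single j 1)
  rw [chi_single, zpow_one] at hc1
  rw [hc1, chi_signChar_congr b h', chi_single, zpow_one]

theorem mem_of_reflChars_fix (h2 : (2 : F) ≠ 0) {b : Fin D.rank → Bool} {L : List (Fin D.rank)}
    (h : reflChars L (signChar D F b) = signChar D F b) : permOf hc L ∈ gamB hc b := by
  refine ⟨⟨L, rfl⟩, fun r => ?_⟩
  have h1 := chi_reflChars hc L (signChar D F b) (rv D T (sigs D T L r.val))
  rw [h, ← rv_sigs hc L.reverse (sigs_lt hc L r.2), sigs_reverse hc L r.2] at h1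
  show Even (bsum D b (rv D T (sigs D T L r.val))) ↔ _
  rw [← chi_signChar_eq_one_iff (F := F) h2, ← chi_signChar_eq_one_iff (F := F) h2, h1]

variable (hcomm : CommOne D T)
include hcomm

theorem closedPos_fix {P : ℕ → Prop} (hP : ClosedPos D T P) (χ : Fin D.rank → Fˣ) :
    ClosedPos D T (FixRoot D T χ P) := by
  refine ⟨fun r hr h => hP.1 r hr h.1, fun r s v hr hs h1 h2' hv => ⟨hP.2 r s v hr hs h1.1 h2'.1 hv, ?_⟩⟩
  obtain ⟨-, i, j, -, -, e⟩ := hv
  rw [e, chi_add, chi_smul, chi_smul, h1.2, h2'.2, one_zpow, one_zpow, one_mul]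

open Classical in
/-- the order of the centraliser of a torus involution in the group -/
theorem card_centralizer [Fintype F] (h2 : (2 : F) ≠ 0) {M : Fin D.rank → Fin D.rank → ℤ}
    (hM : ChevField.CartanInv D M) (b : Fin D.rank → Bool) :
    Nat.card {g : GL D.Idx F // g ∈ D.group F ∧ tB D T F b * g = g * tB D T F b} =
      Fintype.card F ^ (posB D T b).card * Nat.card ↥(D.diagonalSubgroup F) *
        ∑ f ∈ Finset.univ.filter (fun f => f ∈ gamB hc b),
          Fintype.card F ^ (SubSys.invS (posB D T b) f).card := by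
  set χ := signChar D F b with hχ
  set Wt := Finset.univ.filter (fun f : Equiv.Perm (Fin D.nroots) => f ∈ gamB hc b) with hWt
  have hrep : ∀ f : ↥Wt, ∃ L : List (Fin D.rank), f.1 = permOf hc L := fun f =>
    (Finset.mem_filter.1 f.2).2.1
  choose rep hrep using hrep
  set U := uGen D F (FixRoot D T χ (fun r => D.nroots / 2 ≤ r))
  have hfixL : ∀ f : ↥Wt, reflChars (rep f) χ = χ := fun f =>
    reflChars_fix_of_mem hc (by rw [← hrep f]; exact (Finset.mem_filter.1 f.2).2)
  have htd : tB D T F b ∈ D.diagonalSubgroup F := torus_mem_diagonal hc hM _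
  have hUle : ∀ P : ℕ → Prop, uGen D F (FixRoot D T χ P) ≤ D.group F := fun P => by
    rw [uGen_le_iff]; exact fun r hr _ t => elX_mem_group hc hr t
  let Φ : (Σ f : ↥Wt, ↥U × ↥(D.diagonalSubgroup F) × ↥(uGen D F (FixRoot D T χ (InvRoot D T (rep f))))) →
      {g : GL D.Idx F // g ∈ D.group F ∧ tB D T F b * g = g * tB D T F b} := fun a =>
    ⟨a.2.1.1 * (a.2.2.1.1 * nProd D F (rep a.1)) * a.2.2.2.1,
      mul_mem (mul_mem (hUle _ a.2.1.2) (monomial_le_group hc (mul_mem (diagonal_le_monomial hc a.2.2.1.2)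
        (nProd_mem_monomial hc _)))) (hUle _ a.2.2.2.2), by
      have h1 : Commute (tB D T F b) a.2.1.1 := commute_of_mem_fix hc hcomm a.2.1.2
      have h3 : Commute (tB D T F b) a.2.2.2.1 := commute_of_mem_fix hc hcomm a.2.2.2.2
      have h4 : Commute (tB D T F b) a.2.2.1.1 := by
        obtain ⟨c, hc'⟩ := (mem_diagonal hc).1 a.2.2.1.2
        rw [← hc']
        exact torus_commute hc _ _
      have h5 : Commute (tB D T F b) (nProd D F (rep a.1)) := by
        have := nProd_conj_torus hc (F := F) (rep a.1) χ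
        rw [hfixL, mul_inv_eq_iff_eq_mul] at this
        exact this.symm
      exact ((h1.mul_right (h4.mul_right h5)).mul_right h3).eq⟩
  have hle : ∀ f : ↥Wt, uGen D F (FixRoot D T χ (InvRoot D T (rep f))) ≤ uInv D T F (rep f) := fun f =>
    uGen_mono fun r _ h => h.1
  have hb : Function.Bijective Φ := by
    constructor
    · rintro ⟨f, u, h, v⟩ ⟨f', u', h', v'⟩ e
      obtain ⟨hs, h1, h2', h3⟩ := bruhat_unique hc h.2 h'.2 (uGen_mono (fun r _ g => g.1) u.2)
        (uGen_mono (fun r _ g => g.1) u'.2) (hle f v.2) (hle f' v'.2) (congrArg Subtype.val e)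
      obtain rfl : f = f' := Subtype.ext (by
        rw [hrep f, hrep f']
        exact Equiv.ext fun r => Fin.ext (hs r r.2))
      obtain rfl : u = u' := Subtype.ext h1
      obtain rfl : v = v' := Subtype.ext h2'
      obtain rfl : h = h' := Subtype.ext (mul_right_cancel h3)
      rfl
    · rintro ⟨g, hg, hcomm'⟩
      obtain ⟨u, hu, k, hk, L, hL, v, hv, rfl⟩ := exists_of_commute hc hcomm htd hg hcomm'
      have hf : permOf hc L ∈ Wt := Finset.mem_filter.2 ⟨Finset.mem_univ _, mem_of_reflChars_fix hc h2 hL⟩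
      have hs : ∀ r, r < D.nroots → sigs D T L r = sigs D T (rep ⟨_, hf⟩) r := fun r hr =>
        congrArg (fun π : Equiv.Perm (Fin D.nroots) => (π ⟨r, hr⟩).val) (hrep ⟨_, hf⟩)
      have hm := nProd_div_mem hc (F := F) hs
      have hv' : v ∈ uGen D F (FixRoot D T χ (InvRoot D T (rep ⟨_, hf⟩))) :=
        uGen_mono (fun r hr h => ⟨by simpa only [InvRoot, hs r hr] using h.1, h.2⟩) hv
      refine ⟨⟨⟨_, hf⟩, ⟨u, hu⟩, ⟨_, mul_mem hk hm⟩, ⟨v, hv'⟩⟩, Subtype.ext ?_⟩
      simp only [Φ]
      group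
  rw [← Nat.card_eq_of_bijective Φ hb]
  haveI : Fintype (GL D.Idx F) := Fintype.ofFinite _
  rw [Nat.card_sigma]
  have hsetP : ∀ P : ℕ → Prop, ∀ r : Fin D.nroots,
      FixRoot D T χ P r.val ↔ P r.val ∧ Even (bsum D b (rv D T r.val)) := fun P r => by
    rw [FixRoot, hχ, chi_signChar_eq_one_iff h2]
  have e : ∀ f : ↥Wt, Nat.card (↥U × ↥(D.diagonalSubgroup F) × ↥(uGen D F (FixRoot D T χ (InvRoot D T (rep f))))) =
      Fintype.card F ^ (posB D T b).card * Nat.card ↥(D.diagonalSubgroup F) *
        Fintype.card F ^ (SubSys.invS (posB D T b) f.1).card := by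
    intro f
    rw [Nat.card_prod, Nat.card_prod, card_uGen hc hcomm (closedPos_fix hc hcomm (closedPos_pos hc) χ),
      card_uGen hc hcomm (closedPos_fix hc hcomm (closedPos_inv hc (rep f)) χ), mul_assoc]
    congr 2
    · congr 1
      ext r
      rw [mem_posB]
      exact Finset.mem_filter.trans ((and_iff_right (Finset.mem_univ r)).trans (hsetP _ r))
    · congr 2
      ext r
      rw [SubSys.mem_invS, mem_posB, hrep f]
      refine Finset.mem_filter.trans ((and_iff_right (Finset.mem_univ r)).trans ((hsetP _ r).trans ?_))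
      have hf' : permOf hc (rep f) ∈ gamB hc b := by rw [← hrep f]; exact (Finset.mem_filter.1 f.2).2
      rw [mem_posB, InvRoot]
      constructor
      · rintro ⟨⟨h1, h3⟩, h4⟩
        exact ⟨⟨h1, h4⟩, fun h => absurd h.1 (by show ¬ D.nroots / 2 ≤ sigs D T (rep f) r.val; omega)⟩
      · rintro ⟨⟨h1, h4⟩, h3⟩
        refine ⟨⟨h1, ?_⟩, h4⟩
        by_contra hh
        exact h3 ⟨by show D.nroots / 2 ≤ sigs D T (rep f) r.val; omega, (hf'.2 r).2 h4⟩
  simp only [e, ← Finset.mul_sum]
  congr 1
  exact Finset.sum_coe_sort Wt fun f => Fintype.card F ^ (SubSys.invS (posB D T b) f).card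

end

end CfsgLib.ChevInvol
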