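import Cfsg.Agent.Lib.ChevInvol.OrthCert
import Cfsg.Agent.Lib.Chev.Gen.ChkE8

/-!
The certificate for orthogonal sets of roots of E8.
-/

set_option autoImplicit false

namespace CfsgLib.ChevInvol

open Cfsg.Lie CfsgLib.Chev

/-- representatives and moves for orthogonal sets of roots -/
def orthE8 : OrthData := [
  ([],
   [],
   [(120, [], 1),
    (121, [6, 7], 1),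
    (122, [6], 1),
    (123, [6, 5, 7, 6], 1),
    (124, [6, 5, 7], 1),
    (125, [6, 5], 1),
    (126, [6, 5, 4, 7, 6, 5], 1),
    (127, [6, 5, 4, 7, 6], 1),
    (128, [6, 5, 4, 7], 1),
    (129, [6, 5, 4], 1),
    (130, [6, 5, 4, 3, 7, 6, 5, 4], 1),
    (131, [6, 5, 4, 3, 7, 6, 5], 1),
    (132, [6, 5, 4, 3, 7, 6], 1),
    (133, [6, 5, 4, 3, 7], 1),
    (134, [6, 5, 4, 3], 1),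
    (135, [6, 5, 4, 3, 2, 7, 6, 5, 4, 3], 1),
    (136, [6, 5, 4, 3, 2, 7, 6, 5, 4], 1),
    (137, [6, 5, 4, 3, 2, 7, 6, 5], 1),
    (138, [6, 5, 4, 3, 2, 7, 6], 1),
    (139, [6, 5, 4, 3, 2, 7], 1),
    (140, [6, 5, 4, 3, 2], 1),
    (141, [6, 5, 4, 3, 1, 7, 6, 5, 4, 3], 1),
    (142, [6, 5, 4, 3, 1, 7, 6, 5, 4], 1),
    (143, [6, 5, 4, 3, 1, 7, 6, 5], 1),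
    (144, [6, 5, 4, 3, 1, 7, 6], 1),
    (145, [6, 5, 4, 3, 1, 7], 1),
    (146, [6, 5, 4, 3, 1], 1),
    (147, [6, 5, 4, 3, 1, 2, 7, 6, 5, 4], 1),
    (148, [6, 5, 4, 3, 1, 2, 7, 6, 5], 1),
    (149, [6, 5, 4, 3, 1, 2, 7, 6], 1),
    (150, [6, 5, 4, 3, 1, 2, 7], 1),
    (151, [6, 5, 4, 3, 1, 2], 1),
    (152, [6, 5, 4, 3, 1, 2, 3, 7, 6, 5], 1),
    (153, [6, 5, 4, 3, 1, 2, 3, 7, 6], 1),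
    (154, [6, 5, 4, 3, 1, 2, 3, 7], 1),
    (155, [6, 5, 4, 3, 1, 2, 3], 1),
    (156, [6, 5, 4, 3, 1, 2, 3, 4, 7, 6], 1),
    (157, [6, 5, 4, 3, 1, 2, 3, 4, 7], 1),
    (158, [6, 5, 4, 3, 1, 2, 3, 4], 1),
    (159, [6, 5, 4, 3, 1, 2, 3, 4, 5, 7], 1),
    (160, [6, 5, 4, 3, 1, 2, 3, 4, 5], 1),
    (161, [6, 5, 4, 3, 1, 2, 3, 4, 5, 6], 1),
    (162, [6, 5, 4, 3, 2, 0, 7, 6, 5, 4, 3, 2], 1),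
    (163, [6, 5, 4, 3, 2, 0, 7, 6, 5, 4, 3], 1),
    (164, [6, 5, 4, 3, 2, 0, 7, 6, 5, 4], 1),
    (165, [6, 5, 4, 3, 2, 0, 7, 6, 5], 1),
    (166, [6, 5, 4, 3, 2, 0, 7, 6], 1),
    (167, [6, 5, 4, 3, 2, 0, 7], 1),
    (168, [6, 5, 4, 3, 2, 0], 1),
    (169, [6, 5, 4, 3, 1, 2, 0, 7, 6, 5, 4], 1),
    (170, [6, 5, 4, 3, 1, 2, 0, 7, 6, 5], 1),
    (171, [6, 5, 4, 3, 1, 2, 0, 7, 6], 1),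
    (172, [6, 5, 4, 3, 1, 2, 0, 7], 1),
    (173, [6, 5, 4, 3, 1, 2, 0], 1),
    (174, [6, 5, 4, 3, 1, 2, 0, 3, 7, 6, 5], 1),
    (175, [6, 5, 4, 3, 1, 2, 0, 3, 7, 6], 1),
    (176, [6, 5, 4, 3, 1, 2, 0, 3, 7], 1),
    (177, [6, 5, 4, 3, 1, 2, 0, 3], 1),
    (178, [6, 5, 4, 3, 1, 2, 0, 3, 4, 7, 6], 1),
    (179, [6, 5, 4, 3, 1, 2, 0, 3, 4, 7], 1),
    (180, [6, 5, 4, 3, 1, 2, 0, 3, 4], 1),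
    (181, [6, 5, 4, 3, 1, 2, 0, 3, 4, 5, 7], 1),
    (182, [6, 5, 4, 3, 1, 2, 0, 3, 4, 5], 1),
    (183, [6, 5, 4, 3, 1, 2, 0, 3, 4, 5, 6], 1),
    (184, [6, 5, 4, 3, 1, 2, 0, 3, 2, 7, 6, 5], 1),
    (185, [6, 5, 4, 3, 1, 2, 0, 3, 2, 7, 6], 1),
    (186, [6, 5, 4, 3, 1, 2, 0, 3, 2, 7], 1),
    (187, [6, 5, 4, 3, 1, 2, 0, 3, 2], 1),
    (188, [6, 5, 4, 3, 1, 2, 0, 3, 2, 4, 7, 6], 1),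
    (189, [6, 5, 4, 3, 1, 2, 0, 3, 2, 4, 7], 1),
    (190, [6, 5, 4, 3, 1, 2, 0, 3, 2, 4], 1),
    (191, [6, 5, 4, 3, 1, 2, 0, 3, 2, 4, 5, 7], 1),
    (192, [6, 5, 4, 3, 1, 2, 0, 3, 2, 4, 5], 1),
    (193, [6, 5, 4, 3, 1, 2, 0, 3, 2, 4, 5, 6], 1),
    (194, [6, 5, 4, 3, 1, 2, 0, 3, 2, 4, 3, 7, 6], 1),
    (195, [6, 5, 4, 3, 1, 2, 0, 3, 2, 4, 3, 7], 1),
    (196, [6, 5, 4, 3, 1, 2, 0, 3, 2, 4, 3], 1),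
    (197, [6, 5, 4, 3, 1, 2, 0, 3, 2, 4, 3, 5, 7], 1),
    (198, [6, 5, 4, 3, 1, 2, 0, 3, 2, 4, 3, 5], 1),
    (199, [6, 5, 4, 3, 1, 2, 0, 3, 2, 4, 3, 5, 6], 1),
    (200, [6, 5, 4, 3, 1, 2, 0, 3, 2, 4, 3, 5, 4, 7], 1),
    (201, [6, 5, 4, 3, 1, 2, 0, 3, 2, 4, 3, 5, 4], 1),
    (202, [6, 5, 4, 3, 1, 2, 0, 3, 2, 4, 3, 5, 4, 6], 1),
    (203, [6, 5, 4, 3, 1, 2, 0, 3, 2, 4, 3, 5, 4, 6, 5], 1),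
    (204, [6, 5, 4, 3, 1, 2, 0, 3, 2, 4, 3, 1, 7, 6], 1),
    (205, [6, 5, 4, 3, 1, 2, 0, 3, 2, 4, 3, 1, 7], 1),
    (206, [6, 5, 4, 3, 1, 2, 0, 3, 2, 4, 3, 1], 1),
    (207, [6, 5, 4, 3, 1, 2, 0, 3, 2, 4, 3, 1, 5, 7], 1),
    (208, [6, 5, 4, 3, 1, 2, 0, 3, 2, 4, 3, 1, 5], 1),
    (209, [6, 5, 4, 3, 1, 2, 0, 3, 2, 4, 3, 1, 5, 6], 1),
    (210, [6, 5, 4, 3, 1, 2, 0, 3, 2, 4, 3, 1, 5, 4, 7], 1),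
    (211, [6, 5, 4, 3, 1, 2, 0, 3, 2, 4, 3, 1, 5, 4], 1),
    (212, [6, 5, 4, 3, 1, 2, 0, 3, 2, 4, 3, 1, 5, 4, 6], 1),
    (213, [6, 5, 4, 3, 1, 2, 0, 3, 2, 4, 3, 1, 5, 4, 6, 5], 1),
    (214, [6, 5, 4, 3, 1, 2, 0, 3, 2, 4, 3, 1, 5, 4, 3, 7], 1),
    (215, [6, 5, 4, 3, 1, 2, 0, 3, 2, 4, 3, 1, 5, 4, 3], 1),
    (216, [6, 5, 4, 3, 1, 2, 0, 3, 2, 4, 3, 1, 5, 4, 3, 6], 1),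
    (217, [6, 5, 4, 3, 1, 2, 0, 3, 2, 4, 3, 1, 5, 4, 3, 6, 5], 1),
    (218, [6, 5, 4, 3, 1, 2, 0, 3, 2, 4, 3, 1, 5, 4, 3, 6, 5, 4], 1),
    (219, [6, 5, 4, 3, 1, 2, 0, 3, 2, 4, 3, 1, 5, 4, 3, 2, 7], 1),
    (220, [6, 5, 4, 3, 1, 2, 0, 3, 2, 4, 3, 1, 5, 4, 3, 2], 1),
    (221, [6, 5, 4, 3, 1, 2, 0, 3, 2, 4, 3, 1, 5, 4, 3, 2, 6], 1),
    (222, [6, 5, 4, 3, 1, 2, 0, 3, 2, 4, 3, 1, 5, 4, 3, 2, 6, 5], 1),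
    (223, [6, 5, 4, 3, 1, 2, 0, 3, 2, 4, 3, 1, 5, 4, 3, 2, 6, 5, 4], 1),
    (224, [6, 5, 4, 3, 1, 2, 0, 3, 2, 4, 3, 1, 5, 4, 3, 2, 6, 5, 4, 3], 1),
    (225, [6, 5, 4, 3, 1, 2, 0, 3, 2, 4, 3, 1, 5, 4, 3, 2, 6, 5, 4, 3, 1], 1),
    (226, [6, 5, 4, 3, 1, 2, 0, 3, 2, 4, 3, 1, 5, 4, 3, 2, 0, 7], 1),
    (227, [6, 5, 4, 3, 1, 2, 0, 3, 2, 4, 3, 1, 5, 4, 3, 2, 0], 1),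
    (228, [6, 5, 4, 3, 1, 2, 0, 3, 2, 4, 3, 1, 5, 4, 3, 2, 0, 6], 1),
    (229, [6, 5, 4, 3, 1, 2, 0, 3, 2, 4, 3, 1, 5, 4, 3, 2, 0, 6, 5], 1),
    (230, [6, 5, 4, 3, 1, 2, 0, 3, 2, 4, 3, 1, 5, 4, 3, 2, 0, 6, 5, 4], 1),
    (231, [6, 5, 4, 3, 1, 2, 0, 3, 2, 4, 3, 1, 5, 4, 3, 2, 0, 6, 5, 4, 3], 1),
    (232, [6, 5, 4, 3, 1, 2, 0, 3, 2, 4, 3, 1, 5, 4, 3, 2, 0, 6, 5, 4, 3, 2], 1),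
    (233, [6, 5, 4, 3, 1, 2, 0, 3, 2, 4, 3, 1, 5, 4, 3, 2, 0, 6, 5, 4, 3, 1], 1),
    (234, [6, 5, 4, 3, 1, 2, 0, 3, 2, 4, 3, 1, 5, 4, 3, 2, 0, 6, 5, 4, 3, 1, 2], 1),
    (235, [6, 5, 4, 3, 1, 2, 0, 3, 2, 4, 3, 1, 5, 4, 3, 2, 0, 6, 5, 4, 3, 1, 2, 3], 1),
    (236, [6, 5, 4, 3, 1, 2, 0, 3, 2, 4, 3, 1, 5, 4, 3, 2, 0, 6, 5, 4, 3, 1, 2, 3, 4], 1),
    (237, [6, 5, 4, 3, 1, 2, 0, 3, 2, 4, 3, 1, 5, 4, 3, 2, 0, 6, 5, 4, 3, 1, 2, 3, 4, 5], 1),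
    (238, [6, 5, 4, 3, 1, 2, 0, 3, 2, 4, 3, 1, 5, 4, 3, 2, 0, 6, 5, 4, 3, 1, 2, 3, 4, 5, 6], 1),
    (239, [6, 5, 4, 3, 1, 2, 0, 3, 2, 4, 3, 1, 5, 4, 3, 2, 0, 6, 5, 4, 3, 1, 2, 3, 4, 5, 6, 7], 1)]),
  ([120],
   [],
   [(123, [], 2),
    (126, [4, 5], 2),
    (127, [4], 2),
    (130, [4, 3, 5, 4], 2),
    (131, [4, 3, 5], 2),
    (132, [4, 3], 2),
    (135, [4, 3, 2, 5, 4, 3], 2),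
    (136, [4, 3, 2, 5, 4], 2),
    (137, [4, 3, 2, 5], 2),
    (138, [4, 3, 2], 2),
    (141, [4, 3, 1, 5, 4, 3], 2),
    (142, [4, 3, 1, 5, 4], 2),
    (143, [4, 3, 1, 5], 2),
    (144, [4, 3, 1], 2),
    (147, [4, 3, 1, 2, 5, 4], 2),
    (148, [4, 3, 1, 2, 5], 2),
    (149, [4, 3, 1, 2], 2),
    (152, [4, 3, 1, 2, 3, 5], 2),
    (153, [4, 3, 1, 2, 3], 2),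
    (156, [4, 3, 1, 2, 3, 4], 2),
    (161, [4, 3, 2, 0, 5, 4, 3, 2, 6, 5, 4, 3, 1, 2, 0, 3, 2, 4, 3, 5, 4, 6, 5, 7, 6, 5, 4, 3, 2, 0], 2),
    (162, [4, 3, 2, 0, 5, 4, 3, 2], 2),
    (163, [4, 3, 2, 0, 5, 4, 3], 2),
    (164, [4, 3, 2, 0, 5, 4], 2),
    (165, [4, 3, 2, 0, 5], 2),
    (166, [4, 3, 2, 0], 2),
    (169, [4, 3, 1, 2, 0, 5, 4], 2),
    (170, [4, 3, 1, 2, 0, 5], 2),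
    (171, [4, 3, 1, 2, 0], 2),
    (174, [4, 3, 1, 2, 0, 3, 5], 2),
    (175, [4, 3, 1, 2, 0, 3], 2),
    (178, [4, 3, 1, 2, 0, 3, 4], 2),
    (183, [4, 3, 2, 0, 5, 4, 3, 2, 6, 5, 4, 3, 1, 2, 0, 3, 2, 4, 3, 5, 4, 6, 5, 7, 6, 5, 4, 3, 2], 2),
    (184, [4, 3, 1, 2, 0, 3, 2, 5], 2),
    (185, [4, 3, 1, 2, 0, 3, 2], 2),
    (188, [4, 3, 1, 2, 0, 3, 2, 4], 2),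
    (193, [4, 3, 2, 0, 5, 4, 3, 2, 6, 5, 4, 3, 1, 2, 0, 3, 2, 4, 3, 5, 4, 6, 5, 7, 6, 5, 4, 3], 2),
    (194, [4, 3, 1, 2, 0, 3, 2, 4, 3], 2),
    (199, [4, 3, 2, 0, 5, 4, 3, 2, 6, 5, 4, 3, 1, 2, 0, 3, 2, 4, 3, 5, 4, 6, 5, 7, 6, 5, 4], 2),
    (202, [4, 3, 2, 0, 5, 4, 3, 2, 6, 5, 4, 3, 1, 2, 0, 3, 2, 4, 3, 5, 4, 6, 5, 7, 6, 5], 2),
    (203, [4, 3, 2, 0, 5, 4, 3, 2, 6, 5, 4, 3, 1, 2, 0, 3, 2, 4, 3, 5, 4, 6, 5, 7, 6], 2),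
    (204, [4, 3, 1, 2, 0, 3, 2, 4, 3, 1], 2),
    (209, [4, 3, 1, 2, 0, 5, 4, 6, 5, 4, 3, 1, 2, 3, 4, 5, 6, 7, 6, 5, 4, 3, 1, 2, 3, 4, 5, 6], 2),
    (212, [4, 3, 1, 2, 0, 5, 6, 5, 4, 3, 1, 2, 3, 4, 5, 6, 7, 6, 5, 4, 3, 1, 2, 3, 4, 5, 6], 2),
    (213, [4, 3, 1, 2, 0, 6, 5, 4, 3, 1, 2, 3, 4, 5, 6, 7, 6, 5, 4, 3, 1, 2, 3, 4, 5, 6], 2),
    (216, [4, 3, 1, 2, 0, 3, 5, 6, 5, 4, 3, 1, 2, 3, 4, 5, 6, 7, 6, 5, 4, 3, 1, 2, 3, 4, 5, 6], 2),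
    (217, [4, 3, 1, 2, 0, 3, 6, 5, 4, 3, 1, 2, 3, 4, 5, 6, 7, 6, 5, 4, 3, 1, 2, 3, 4, 5, 6], 2),
    (218, [4, 3, 1, 2, 0, 3, 4, 6, 5, 4, 3, 1, 2, 3, 4, 5, 6, 7, 6, 5, 4, 3, 1, 2, 3, 4, 5, 6], 2),
    (221, [4, 3, 1, 2, 0, 3, 2, 5, 6, 5, 4, 3, 1, 2, 3, 4, 5, 6, 7, 6, 5, 4, 3, 1, 2, 3, 4, 5, 6], 2),
    (222, [4, 3, 1, 2, 0, 3, 2, 6, 5, 4, 3, 1, 2, 3, 4, 5, 6, 7, 6, 5, 4, 3, 1, 2, 3, 4, 5, 6], 2),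
    (223, [4, 3, 1, 2, 0, 3, 2, 4, 6, 5, 4, 3, 1, 2, 3, 4, 5, 6, 7, 6, 5, 4, 3, 1, 2, 3, 4, 5, 6], 2),
    (224, [4, 3, 1, 2, 0, 3, 2, 4, 3, 6, 5, 4, 3, 1, 2, 3, 4, 5, 6, 7, 6, 5, 4, 3, 1, 2, 3, 4, 5, 6], 2),
    (225, [4, 3, 1, 2, 0, 3, 2, 4, 3, 1, 6, 5, 4, 3, 1, 2, 3, 4, 5, 6, 7, 6, 5, 4, 3, 1, 2, 3, 4, 5, 6], 2),
    (228, [4, 3, 1, 2, 0, 3, 2, 5, 6, 5, 4, 3, 1, 2, 3, 4, 5, 6, 7, 6, 5, 4, 3, 1, 2, 0, 3, 4, 5, 6], 2),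
    (229, [4, 3, 1, 2, 0, 3, 2, 6, 5, 4, 3, 1, 2, 3, 4, 5, 6, 7, 6, 5, 4, 3, 1, 2, 0, 3, 4, 5, 6], 2),
    (230, [4, 3, 1, 2, 0, 3, 2, 4, 6, 5, 4, 3, 1, 2, 3, 4, 5, 6, 7, 6, 5, 4, 3, 1, 2, 0, 3, 4, 5, 6], 2),
    (231, [4, 3, 1, 2, 0, 3, 2, 4, 3, 6, 5, 4, 3, 1, 2, 3, 4, 5, 6, 7, 6, 5, 4, 3, 1, 2, 0, 3, 4, 5, 6], 2),
    (232, [4, 3, 1, 2, 0, 3, 2, 4, 3, 6, 5, 4, 3, 1, 2, 3, 4, 5, 6, 7, 6, 5, 4, 3, 1, 2, 0, 3, 2, 4, 5, 6], 2),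
    (233, [4, 3, 1, 2, 0, 3, 2, 4, 3, 1, 6, 5, 4, 3, 1, 2, 3, 4, 5, 6, 7, 6, 5, 4, 3, 1, 2, 0, 3, 4, 5, 6], 2),
    (234, [4, 3, 1, 2, 0, 3, 2, 4, 3, 1, 6, 5, 4, 3, 1, 2, 3, 4, 5, 6, 7, 6, 5, 4, 3, 1, 2, 0, 3, 2, 4, 5, 6], 2),
    (235, [4, 3, 1, 2, 0, 3, 2, 4, 3, 1, 6, 5, 4, 3, 1, 2, 3, 4, 5, 6, 7, 6, 5, 4, 3, 1, 2, 0, 3, 2, 4, 3, 5, 6], 2),
    (236, [4, 3, 1, 2, 0, 3, 2, 4, 3, 1, 6, 5, 4, 3, 1, 2, 3, 4, 5, 6, 7, 6, 5, 4, 3, 1, 2, 0, 3, 2, 4, 3, 5, 4, 6], 2),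
    (237, [4, 3, 1, 2, 0, 3, 2, 4, 3, 1, 6, 5, 4, 3, 1, 2, 3, 4, 5, 6, 7, 6, 5, 4, 3, 1, 2, 0, 3, 2, 4, 3, 5, 4, 6, 5], 2)]),
  ([120, 123],
   [],
   [(130, [], 3),
    (135, [2, 3], 3),
    (136, [2], 3),
    (141, [1, 3], 3),
    (142, [1], 3),
    (147, [1, 2], 3),
    (156, [2, 0, 3, 2, 4, 3, 1, 2, 0, 3, 2, 4, 3, 5, 4, 3, 2, 0], 3),
    (161, [2, 0, 3, 2, 4, 3, 1, 2, 0, 3, 2, 4, 3, 5, 4, 3, 2, 0, 6, 5, 7, 6], 3),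
    (162, [2, 0, 3, 2], 3),
    (163, [2, 0, 3], 3),
    (164, [2, 0], 3),
    (169, [1, 2, 0], 3),
    (178, [2, 0, 3, 2, 4, 3, 1, 2, 0, 3, 2, 4, 3, 5, 4, 3, 2], 3),
    (183, [2, 0, 3, 2, 4, 3, 1, 2, 0, 3, 2, 4, 3, 5, 4, 3, 2, 6, 5, 7, 6], 3),
    (188, [2, 0, 3, 2, 4, 3, 1, 2, 0, 3, 2, 4, 3, 5, 4, 3], 3),
    (193, [2, 0, 3, 2, 4, 3, 1, 2, 0, 3, 2, 4, 3, 5, 4, 3, 6, 5, 7, 6], 3),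
    (194, [2, 0, 3, 2, 4, 3, 1, 2, 0, 3, 2, 4, 3, 5, 4], 3),
    (199, [2, 0, 3, 2, 4, 3, 1, 2, 0, 3, 2, 4, 3, 5, 4, 6, 5, 7, 6], 3),
    (204, [1, 2, 0, 4, 3, 1, 2, 3, 4, 5, 4, 3, 1, 2, 3, 4], 3),
    (209, [1, 2, 0, 4, 3, 1, 2, 3, 4, 5, 4, 3, 1, 2, 3, 4, 6, 5, 7, 6], 3),
    (218, [2, 0, 3, 2, 4, 3, 1, 2, 0, 3, 2, 4, 3, 5, 4, 3, 2, 6, 5, 4, 3, 1, 2, 3, 4, 7, 6, 5, 4, 3, 1, 2, 3, 4], 3),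
    (223, [2, 0, 3, 2, 4, 3, 1, 2, 0, 3, 2, 4, 3, 5, 4, 3, 6, 5, 4, 3, 1, 2, 3, 4, 7, 6, 5, 4, 3, 1, 2, 3, 4], 3),
    (224, [2, 0, 3, 2, 4, 3, 1, 2, 0, 3, 2, 4, 3, 5, 4, 6, 5, 4, 3, 1, 2, 3, 4, 7, 6, 5, 4, 3, 1, 2, 3, 4], 3),
    (225, [1, 2, 0, 4, 3, 1, 2, 3, 4, 5, 4, 3, 1, 2, 3, 4, 6, 5, 4, 3, 1, 2, 3, 4, 7, 6, 5, 4, 3, 1, 2, 3, 4], 3),
    (230, [2, 0, 3, 2, 4, 3, 1, 2, 0, 3, 2, 4, 3, 5, 4, 3, 6, 5, 4, 3, 1, 2, 3, 4, 7, 6, 5, 4, 3, 1, 2, 0, 3, 4], 3),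
    (231, [2, 0, 3, 2, 4, 3, 1, 2, 0, 3, 2, 4, 3, 5, 4, 6, 5, 4, 3, 1, 2, 3, 4, 7, 6, 5, 4, 3, 1, 2, 0, 3, 4], 3),
    (232, [2, 0, 3, 2, 4, 3, 1, 2, 0, 3, 2, 4, 3, 5, 4, 6, 5, 4, 3, 1, 2, 3, 4, 7, 6, 5, 4, 3, 1, 2, 0, 3, 2, 4], 3),
    (233, [1, 2, 0, 4, 3, 1, 2, 3, 4, 5, 4, 3, 1, 2, 3, 4, 6, 5, 4, 3, 1, 2, 3, 4, 7, 6, 5, 4, 3, 1, 2, 0, 3, 4], 3),
    (234, [1, 2, 0, 4, 3, 1, 2, 3, 4, 5, 4, 3, 1, 2, 3, 4, 6, 5, 4, 3, 1, 2, 3, 4, 7, 6, 5, 4, 3, 1, 2, 0, 3, 2, 4], 3),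
    (235, [1, 2, 0, 4, 3, 1, 2, 3, 4, 5, 4, 3, 1, 2, 3, 4, 6, 5, 4, 3, 1, 2, 3, 4, 7, 6, 5, 4, 3, 1, 2, 0, 3, 2, 4, 3], 3)]),
  ([120, 123, 130],
   [(232, 189)],
   [(147, [], 4),
    (156, [4, 3, 5, 4], 4),
    (161, [4, 3, 5, 4, 6, 5, 7, 6], 4),
    (162, [0, 1, 2, 3, 1, 2], 4),
    (169, [0], 4),
    (178, [0, 4, 3, 5, 4], 4),
    (183, [0, 4, 3, 5, 4, 6, 5, 7, 6], 4),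
    (204, [0, 4, 3, 1, 2, 5, 4, 3, 1, 2], 4),
    (209, [0, 4, 3, 1, 2, 5, 4, 3, 1, 2, 6, 5, 7, 6], 4),
    (218, [0, 4, 3, 1, 2, 5, 4, 3, 1, 2, 6, 5, 4, 3, 7, 6, 5, 4], 4),
    (225, [0, 4, 3, 1, 2, 5, 4, 3, 1, 2, 6, 5, 4, 3, 1, 2, 7, 6, 5, 4, 3, 1, 2], 4),
    (233, [0, 4, 3, 1, 2, 5, 4, 3, 1, 2, 6, 5, 4, 3, 1, 2, 7, 6, 5, 4, 3, 1, 2, 0], 4)]),
  ([120, 123, 130, 147],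
   [(156, 126), (161, 128), (232, 189), (233, 179)],
   [])]

set_option maxHeartbeats 0 in
theorem orthE8_ok : OrthOK chevE8 E8.tabs orthE8 := by
  unfold OrthOK ExtOK KillOK MoveOK
  decide +kernel

theorem orthPropE8 : OrthProp chevE8 E8.tabs :=
  orthProp_of_ok E8.checked orthE8_ok

end CfsgLib.ChevInvol
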