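import Cfsg.Agent.Lib.ChevInvol.Main
import Cfsg.Agent.Lib.ChevInvol.OrthE8
import Cfsg.Agent.Lib.Chev.OrderCases

/-!
The two classes of involutions of E8 over a field of odd order.
-/

set_option autoImplicit false
set_option linter.unusedSectionVars false

namespace CfsgLib.ChevInvol

open Cfsg.Lie CfsgLib.Chev CfsgLib.ChevCent

theorem hcommE8 : CommOne chevE8 E8.tabs := commOne_of_commCheck E8.checked E8.comm_ok E8.short_ok

/-- a left inverse of the Cartan matrix -/
def cinvE8 (i k : Fin chevE8.rank) : ℤ :=
  (([[4, 5, 7, 10, 8, 6, 4, 2], [5, 8, 10, 15, 12, 9, 6, 3], [7, 10, 14, 20, 16, 12, 8, 4], [10, 15, 20, 30, 24, 18, 12, 6], [8, 12, 16, 24, 20, 15, 10, 5], [6, 9, 12, 18, 15, 12, 8, 4], [4, 6, 8, 12, 10, 8, 6, 3], [2, 3, 4, 6, 5, 4, 3, 2]] : List (List ℤ)).getD i.val []).getD k.val 0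

theorem cinvE8_spec : ChevField.CartanInv chevE8 cinvE8 := by
  unfold ChevField.CartanInv
  decide +kernel

theorem diagE8 {F : Type*} [Field F] [Fintype F] :
    Nat.card ↥(chevE8.diagonalSubgroup F) = (Fintype.card F - 1) ^ 8 := by
  simpa using card_diagonal_E8 (F := F)

/-- the bits of a torus involution -/
def bitsE8_1 : List Bool := [false, false, false, false, false, true, false, false]

/-- the fundamental roots of the fixed subsystem -/
def dlE8_1 : Fin 8 → Fin chevE8.nroots := fun k =>
  ⟨([120, 121, 126, 130, 135, 141, 159, 162] : List ℕ).getD k.val 0 % chevE8.nroots, Nat.mod_lt _ (by decide +kernel)⟩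

/-- the Cartan matrix of the fixed subsystem -/
def cartE8_1 : List (List ℤ) := [[2, -1, 0, 0, 0, 0, -1, 0], [-1, 2, 0, 0, 0, 0, 0, 0], [0, 0, 2, -1, 0, 0, 0, 0], [0, 0, -1, 2, -1, -1, 0, 0], [0, 0, 0, -1, 2, 0, 0, -1], [0, 0, 0, -1, 0, 2, 0, 0], [-1, 0, 0, 0, 0, 0, 2, -1], [0, 0, 0, 0, -1, 0, -1, 2]]

/-- the coordinate change -/
def minvE8_1 : List (List ℤ) := [[0, 0, 0, 0, 0, 0, 0, 2], [0, 0, 0, 0, 0, 2, 0, 0], [0, 0, 0, 0, 2, 0, 0, 0], [0, 0, 0, 2, 0, 0, 0, 0], [0, 0, 2, 0, 0, 0, 0, 0], [0, -1, -2, -2, -1, -1, 1, 0], [0, 2, 0, 0, 0, 0, 0, 0], [2, 0, 0, 0, 0, 0, 0, 0]]

set_option maxHeartbeats 0 in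
theorem subOKE8_1 : SubOK chevE8 E8.tabs (bitsOf chevE8 bitsE8_1) dlE8_1 cartE8_1 minvE8_1 2 where
  d_pos := by norm_num
  dl_pos := by decide +kernel
  dl_scaled := by decide +kernel
  span := by decide +kernel
  coords := by decide +kernel
  cartan := by decide +kernel
  auts := by decide +kernel

theorem posBE8_1_card : (posB chevE8 E8.tabs (bitsOf chevE8 bitsE8_1)).card = 56 := by
  decide +kernel

set_option maxHeartbeats 0 in
theorem wsumE8_1 (x : ℕ) :
    (subSys E8.checked subOKE8_1).wsumS [0, 1, 6, 7, 4, 3, 2, 5] x =
      polyEval [1, 1, 1, 2, 2, 3, 4, 5, 5, 6, 7, 7, 8, 8, 8, 8, 8, 7, 7, 6, 5, 5, 4, 3, 2, 2, 1, 1, 1] x * polyEval [1, 1, 1, 1, 1, 1, 1, 1] x * polyEval [1, 1, 1, 1, 1, 1, 1] x * polyEval [1, 1, 1, 1, 1, 1] x * polyEval [1, 1, 1, 1, 1] x * polyEval [1, 1, 1, 1] x * polyEval [1, 1, 1] x * polyEval [1, 1] x := by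
  have s0 := (subSys E8.checked subOKE8_1).wsumS_step' ([] : List (Fin 8)) 0
    (by decide +kernel) (m := 2) (by norm_num) [1, 1] (by decide +kernel) x
  have s1 := (subSys E8.checked subOKE8_1).wsumS_step' ([0] : List (Fin 8)) 1
    (by decide +kernel) (m := 3) (by norm_num) [1, 1, 1] (by decide +kernel) x
  have s2 := (subSys E8.checked subOKE8_1).wsumS_step' ([0, 1] : List (Fin 8)) 6
    (by decide +kernel) (m := 4) (by norm_num) [1, 1, 1, 1] (by decide +kernel) x
  have s3 := (subSys E8.checked subOKE8_1).wsumS_step' ([0, 1, 6] : List (Fin 8)) 7
    (by decide +kernel) (m := 5) (by norm_num) [1, 1, 1, 1, 1] (by decide +kernel) x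
  have s4 := (subSys E8.checked subOKE8_1).wsumS_step' ([0, 1, 6, 7] : List (Fin 8)) 4
    (by decide +kernel) (m := 6) (by norm_num) [1, 1, 1, 1, 1, 1] (by decide +kernel) x
  have s5 := (subSys E8.checked subOKE8_1).wsumS_step' ([0, 1, 6, 7, 4] : List (Fin 8)) 3
    (by decide +kernel) (m := 7) (by norm_num) [1, 1, 1, 1, 1, 1, 1] (by decide +kernel) x
  have s6 := (subSys E8.checked subOKE8_1).wsumS_step' ([0, 1, 6, 7, 4, 3] : List (Fin 8)) 2
    (by decide +kernel) (m := 8) (by norm_num) [1, 1, 1, 1, 1, 1, 1, 1] (by decide +kernel) x
  have s7 := (subSys E8.checked subOKE8_1).wsumS_step' ([0, 1, 6, 7, 4, 3, 2] : List (Fin 8)) 5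
    (by decide +kernel) (m := 29) (by norm_num) [1, 1, 1, 2, 2, 3, 4, 5, 5, 6, 7, 7, 8, 8, 8, 8, 8, 7, 7, 6, 5, 5, 4, 3, 2, 2, 1, 1, 1] (by decide +kernel) x
  simp only [List.cons_append, List.nil_append] at s0 s1 s2 s3 s4 s5 s6 s7
  rw [s7, s6, s5, s4, s3, s2, s1, s0, SubSys.wsumS_nil _ 0, mul_one]
  simp only [mul_assoc]

set_option maxHeartbeats 0 in
theorem centE8_1 {F : Type*} [Field F] [Fintype F] (h2 : (2 : F) ≠ 0) {q : ℕ} (hq : Fintype.card F = q) :
    Nat.card {g : GL chevE8.Idx F // g ∈ chevE8.group F ∧ tB chevE8 E8.tabs F (bitsOf chevE8 bitsE8_1) * g =
      g * tB chevE8 E8.tabs F (bitsOf chevE8 bitsE8_1)} = q ^ 56 * ((q ^ 2 - 1) * (q ^ 4 - 1) * (q ^ 6 - 1) * (q ^ 8 - 1) * (q ^ 10 - 1) * (q ^ 12 - 1) * (q ^ 14 - 1) * (q ^ 8 - 1)) := by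
  classical
  have hq2 : 2 ≤ q := hq ▸ Fintype.one_lt_card
  rw [card_centralizer E8.checked hcommE8 h2 cinvE8_spec, posBE8_1_card, diagE8,
    ← (subSys E8.checked subOKE8_1).wsumS_full (J := [0, 1, 6, 7, 4, 3, 2, 5]) (by decide), wsumE8_1, hq, mul_assoc]
  congr 1
  zify [Nat.one_le_pow _ q (by omega), (by omega : 1 ≤ q)]
  simp only [polyEval]
  push_cast
  ring

/-- the bits of a torus involution -/
def bitsE8_2 : List Bool := [false, false, false, false, false, false, false, true]

/-- the fundamental roots of the fixed subsystem -/
def dlE8_2 : Fin 8 → Fin chevE8.nroots := fun k =>
  ⟨([121, 123, 126, 130, 135, 141, 162, 239] : List ℕ).getD k.val 0 % chevE8.nroots, Nat.mod_lt _ (by decide +kernel)⟩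

/-- the Cartan matrix of the fixed subsystem -/
def cartE8_2 : List (List ℤ) := [[2, -1, 0, 0, 0, 0, 0, 0], [-1, 2, -1, 0, 0, 0, 0, 0], [0, -1, 2, -1, 0, 0, 0, 0], [0, 0, -1, 2, -1, -1, 0, 0], [0, 0, 0, -1, 2, 0, -1, 0], [0, 0, 0, -1, 0, 2, 0, 0], [0, 0, 0, 0, -1, 0, 2, 0], [0, 0, 0, 0, 0, 0, 0, 2]]

/-- the coordinate change -/
def minvE8_2 : List (List ℤ) := [[0, 0, 0, 0, 0, 0, 2, 0], [0, 0, 0, 0, 0, 2, 0, 0], [0, 0, 0, 0, 2, 0, 0, 0], [0, 0, 0, 2, 0, 0, 0, 0], [0, 0, 2, 0, 0, 0, 0, 0], [0, 2, 0, 0, 0, 0, 0, 0], [2, 0, 0, 0, 0, 0, 0, 0], [-3, -4, -5, -6, -4, -3, -2, 1]]

set_option maxHeartbeats 0 in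
theorem subOKE8_2 : SubOK chevE8 E8.tabs (bitsOf chevE8 bitsE8_2) dlE8_2 cartE8_2 minvE8_2 2 where
  d_pos := by norm_num
  dl_pos := by decide +kernel
  dl_scaled := by decide +kernel
  span := by decide +kernel
  coords := by decide +kernel
  cartan := by decide +kernel
  auts := by decide +kernel

theorem posBE8_2_card : (posB chevE8 E8.tabs (bitsOf chevE8 bitsE8_2)).card = 64 := by
  decide +kernel

set_option maxHeartbeats 0 in
theorem wsumE8_2 (x : ℕ) :
    (subSys E8.checked subOKE8_2).wsumS [0, 1, 2, 3, 4, 5, 6, 7] x =
      polyEval [1, 1] x * polyEval [1, 1, 1, 1, 2, 2, 3, 3, 4, 4, 5, 5, 6, 6, 6, 6, 7, 7, 6, 6, 6, 6, 5, 5, 4, 4, 3, 3, 2, 2, 1, 1, 1, 1] x * polyEval [1, 1, 1, 2, 2, 3, 3, 3, 3, 3, 3, 2, 2, 1, 1, 1] x * polyEval [1, 1, 1, 1, 1, 1] x * polyEval [1, 1, 1, 1, 1] x * polyEval [1, 1, 1, 1] x * polyEval [1, 1, 1] x * polyEval [1, 1] x := by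
  have s0 := (subSys E8.checked subOKE8_2).wsumS_step' ([] : List (Fin 8)) 0
    (by decide +kernel) (m := 2) (by norm_num) [1, 1] (by decide +kernel) x
  have s1 := (subSys E8.checked subOKE8_2).wsumS_step' ([0] : List (Fin 8)) 1
    (by decide +kernel) (m := 3) (by norm_num) [1, 1, 1] (by decide +kernel) x
  have s2 := (subSys E8.checked subOKE8_2).wsumS_step' ([0, 1] : List (Fin 8)) 2
    (by decide +kernel) (m := 4) (by norm_num) [1, 1, 1, 1] (by decide +kernel) x
  have s3 := (subSys E8.checked subOKE8_2).wsumS_step' ([0, 1, 2] : List (Fin 8)) 3
    (by decide +kernel) (m := 5) (by norm_num) [1, 1, 1, 1, 1] (by decide +kernel) x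
  have s4 := (subSys E8.checked subOKE8_2).wsumS_step' ([0, 1, 2, 3] : List (Fin 8)) 4
    (by decide +kernel) (m := 6) (by norm_num) [1, 1, 1, 1, 1, 1] (by decide +kernel) x
  have s5 := (subSys E8.checked subOKE8_2).wsumS_step' ([0, 1, 2, 3, 4] : List (Fin 8)) 5
    (by decide +kernel) (m := 16) (by norm_num) [1, 1, 1, 2, 2, 3, 3, 3, 3, 3, 3, 2, 2, 1, 1, 1] (by decide +kernel) x
  have s6 := (subSys E8.checked subOKE8_2).wsumS_step' ([0, 1, 2, 3, 4, 5] : List (Fin 8)) 6
    (by decide +kernel) (m := 34) (by norm_num) [1, 1, 1, 1, 2, 2, 3, 3, 4, 4, 5, 5, 6, 6, 6, 6, 7, 7, 6, 6, 6, 6, 5, 5, 4, 4, 3, 3, 2, 2, 1, 1, 1, 1] (by decide +kernel) x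
  have s7 := (subSys E8.checked subOKE8_2).wsumS_step' ([0, 1, 2, 3, 4, 5, 6] : List (Fin 8)) 7
    (by decide +kernel) (m := 2) (by norm_num) [1, 1] (by decide +kernel) x
  simp only [List.cons_append, List.nil_append] at s0 s1 s2 s3 s4 s5 s6 s7
  rw [s7, s6, s5, s4, s3, s2, s1, s0, SubSys.wsumS_nil _ 0, mul_one]
  simp only [mul_assoc]

set_option maxHeartbeats 0 in
theorem centE8_2 {F : Type*} [Field F] [Fintype F] (h2 : (2 : F) ≠ 0) {q : ℕ} (hq : Fintype.card F = q) :
    Nat.card {g : GL chevE8.Idx F // g ∈ chevE8.group F ∧ tB chevE8 E8.tabs F (bitsOf chevE8 bitsE8_2) * g =
      g * tB chevE8 E8.tabs F (bitsOf chevE8 bitsE8_2)} = q ^ 64 * ((q ^ 2 - 1) * (q ^ 2 - 1) * (q ^ 6 - 1) * (q ^ 8 - 1) * (q ^ 10 - 1) * (q ^ 12 - 1) * (q ^ 14 - 1) * (q ^ 18 - 1)) := by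
  classical
  have hq2 : 2 ≤ q := hq ▸ Fintype.one_lt_card
  rw [card_centralizer E8.checked hcommE8 h2 cinvE8_spec, posBE8_2_card, diagE8,
    ← (subSys E8.checked subOKE8_2).wsumS_full (J := [0, 1, 2, 3, 4, 5, 6, 7]) (by decide), wsumE8_2, hq, mul_assoc]
  congr 1
  zify [Nat.one_le_pow _ q (by omega), (by omega : 1 ≤ q)]
  simp only [polyEval]
  push_cast
  ring

/-- the orbit of a vector of bits under the Weyl group -/
def treeE8_1 : List (List Bool × ℕ × ℕ) := [
  ([false, false, false, false, false, true, false, false], 0, 0),
  ([false, false, false, false, true, true, true, false], 0, 5),
  ([false, false, false, true, true, false, true, false], 1, 4),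
  ([false, false, false, false, true, false, true, true], 1, 6),
  ([false, true, true, true, false, false, true, false], 2, 3),
  ([false, false, false, true, true, true, true, true], 2, 6),
  ([false, false, false, false, true, false, false, true], 3, 7),
  ([false, true, true, false, false, false, true, false], 4, 1),
  ([true, true, true, false, false, false, true, false], 4, 2),
  ([false, true, true, true, false, true, true, true], 4, 6),
  ([false, false, false, true, false, true, false, true], 5, 5),
  ([false, false, false, true, true, true, false, true], 5, 7),
  ([true, true, true, true, false, false, true, false], 7, 2),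
  ([false, true, true, false, false, true, true, true], 7, 6),
  ([true, true, false, false, false, false, true, false], 8, 0),
  ([true, true, true, false, false, true, true, true], 8, 6),
  ([false, true, true, true, true, true, false, true], 9, 5),
  ([false, true, true, true, false, true, false, true], 9, 7),
  ([false, false, false, true, false, true, true, true], 10, 7),
  ([true, true, false, true, false, false, true, false], 12, 0),
  ([true, false, false, true, true, false, true, false], 12, 3),
  ([true, true, true, true, false, true, true, true], 12, 6),
  ([false, true, true, false, true, true, false, true], 13, 5),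
  ([false, true, true, false, false, true, false, true], 13, 7),
  ([true, true, false, false, false, true, true, true], 14, 6),
  ([true, true, true, false, true, true, false, true], 15, 5),
  ([true, true, true, false, false, true, false, true], 15, 7),
  ([false, true, true, false, true, false, false, true], 16, 4),
  ([false, true, true, true, true, true, true, true], 16, 7),
  ([false, false, false, true, false, false, true, false], 18, 6),
  ([true, false, true, true, true, false, true, false], 19, 3),
  ([true, true, false, true, false, true, true, true], 19, 6),
  ([true, false, false, false, true, true, true, false], 20, 4),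
  ([true, false, false, true, true, true, true, true], 20, 6),
  ([true, true, true, true, true, true, false, true], 21, 5),
  ([true, true, true, true, false, true, false, true], 21, 7),
  ([false, true, true, true, true, false, false, true], 22, 4),
  ([false, true, true, false, true, true, true, true], 22, 7),
  ([true, true, false, false, true, true, false, true], 24, 5),
  ([true, true, false, false, false, true, false, true], 24, 7),
  ([true, true, true, true, true, false, false, true], 25, 4),
  ([true, true, true, false, true, true, true, true], 25, 7),
  ([false, true, true, false, true, false, true, true], 27, 7),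
  ([false, true, true, true, true, false, true, false], 28, 6),
  ([false, false, true, false, true, false, true, false], 30, 2),
  ([true, false, true, false, true, true, true, false], 30, 4),
  ([true, false, true, true, true, true, true, true], 30, 6),
  ([true, true, false, true, true, true, false, true], 31, 5),
  ([true, true, false, true, false, true, false, true], 31, 7),
  ([true, false, false, false, false, true, false, false], 32, 5),
  ([true, false, false, false, true, false, true, true], 32, 6),
  ([true, false, false, true, false, true, false, true], 33, 5),
  ([true, false, false, true, true, true, false, true], 33, 7),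
  ([true, true, true, false, true, false, false, true], 34, 4),
  ([true, true, true, true, true, true, true, true], 34, 7),
  ([false, false, false, true, false, false, false, true], 36, 3),
  ([false, true, true, true, true, false, true, true], 36, 7),
  ([false, true, true, false, true, false, true, false], 37, 6),
  ([true, true, false, true, true, false, false, true], 38, 4),
  ([true, true, false, false, true, true, true, true], 38, 7),
  ([true, false, false, true, false, false, false, true], 40, 3),
  ([true, true, true, true, true, false, true, true], 40, 7),
  ([true, true, true, false, true, false, true, false], 41, 6),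
  ([false, true, true, false, true, true, true, false], 42, 6),
  ([false, false, true, true, true, true, true, false], 44, 4),
  ([false, false, true, false, true, true, true, true], 44, 6),
  ([true, false, true, false, false, true, false, false], 45, 5),
  ([true, false, true, false, true, false, true, true], 45, 6),
  ([true, false, true, true, false, true, false, true], 46, 5),
  ([true, false, true, true, true, true, false, true], 46, 7),
  ([true, true, false, false, true, false, false, true], 47, 4),
  ([true, true, false, true, true, true, true, true], 47, 7),
  ([true, false, false, false, true, false, false, true], 50, 7),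
  ([true, false, false, true, false, true, true, true], 51, 7),
  ([true, true, true, false, true, false, true, true], 53, 7),
  ([true, true, true, true, true, false, true, false], 54, 6),
  ([false, false, false, true, false, false, true, true], 55, 7),
  ([false, true, true, true, true, true, true, false], 56, 6),
  ([true, false, true, true, false, false, false, true], 58, 3),
  ([true, true, false, true, true, false, true, true], 58, 7),
  ([true, true, false, false, true, false, true, false], 59, 6),
  ([true, false, false, true, false, false, true, true], 60, 7),
  ([true, true, true, true, true, true, true, false], 61, 6),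
  ([false, true, true, false, false, true, false, false], 63, 5),
  ([false, true, false, true, false, true, true, false], 64, 3),
  ([false, false, true, true, false, true, false, false], 64, 5),
  ([false, false, true, true, true, false, true, true], 64, 6),
  ([false, false, true, false, false, true, false, true], 65, 5),
  ([false, false, true, false, true, true, false, true], 65, 7),
  ([true, false, true, false, true, false, false, true], 67, 7),
  ([true, false, true, true, false, true, true, true], 68, 7),
  ([true, true, false, false, true, false, true, true], 70, 7),
  ([true, true, false, true, true, false, true, false], 71, 6),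
  ([true, false, false, true, false, false, true, false], 73, 6),
  ([true, true, true, false, true, true, true, false], 74, 6),
  ([false, false, false, true, false, true, true, false], 76, 6),
  ([false, true, true, true, false, true, false, false], 77, 5),
  ([false, false, true, false, false, false, false, true], 78, 2),
  ([true, false, true, true, false, false, true, true], 78, 7),
  ([true, true, false, true, true, true, true, false], 79, 6),
  ([true, false, false, true, false, true, true, false], 81, 6),
  ([true, true, true, true, false, true, false, false], 82, 5),
  ([false, true, false, false, false, true, true, false], 84, 1),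
  ([false, true, false, true, true, true, false, false], 84, 5),
  ([false, true, false, true, false, false, true, true], 84, 6),
  ([false, false, true, true, true, false, false, true], 86, 7),
  ([false, false, true, false, false, true, true, true], 87, 7),
  ([true, false, true, true, false, false, true, false], 90, 6),
  ([true, true, false, false, true, true, true, false], 91, 6),
  ([true, true, true, false, false, true, false, false], 94, 5),
  ([false, false, false, true, true, true, false, false], 95, 5),
  ([false, false, true, false, false, false, true, true], 97, 7),
  ([true, false, true, true, false, true, true, false], 98, 6),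
  ([true, true, false, true, false, true, false, false], 99, 5),
  ([true, false, false, true, true, true, false, false], 100, 5),
  ([false, true, false, false, true, true, false, false], 102, 5),
  ([false, true, false, false, false, false, true, true], 102, 6),
  ([false, true, false, false, true, false, false, false], 103, 4),
  ([false, true, false, true, false, false, false, true], 104, 7),
  ([false, false, true, false, false, false, true, false], 106, 6),
  ([true, true, false, false, false, true, false, false], 108, 5),
  ([false, false, false, false, true, false, false, false], 110, 4),
  ([false, false, true, false, false, true, true, false], 111, 6),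
  ([true, false, true, true, true, true, false, false], 112, 5),
  ([true, false, false, false, true, false, false, false], 114, 4),
  ([false, true, false, true, true, false, false, false], 115, 4),
  ([false, true, false, false, false, false, false, true], 116, 7),
  ([false, false, true, false, true, true, false, false], 122, 5),
  ([true, false, true, false, true, false, false, false], 123, 4),
  ([false, false, true, true, false, false, false, false], 125, 3),
  ([false, false, true, true, true, false, false, false], 127, 4),
  ([true, false, true, false, false, false, false, false], 129, 2),
  ([false, true, false, true, false, false, false, false], 130, 3),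
  ([true, false, false, false, false, false, false, false], 131, 0),
  ([false, true, false, false, false, false, false, false], 132, 1)]

set_option maxHeartbeats 0 in
theorem treeE8_1_ok : TreeOK cartE8 chevE8.rank treeE8_1 := by
  unfold TreeOK
  decide +kernel

/-- the orbit of a vector of bits under the Weyl group -/
def treeE8_2 : List (List Bool × ℕ × ℕ) := [
  ([false, false, false, false, false, false, false, true], 0, 0),
  ([false, false, false, false, false, false, true, true], 0, 7),
  ([false, false, false, false, false, true, true, false], 1, 6),
  ([false, false, false, false, true, true, false, false], 2, 5),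
  ([false, false, false, true, true, false, false, false], 3, 4),
  ([false, true, true, true, false, false, false, false], 4, 3),
  ([false, true, true, false, false, false, false, false], 5, 1),
  ([true, true, true, false, false, false, false, false], 5, 2),
  ([true, true, true, true, false, false, false, false], 6, 2),
  ([true, true, false, false, false, false, false, false], 7, 0),
  ([true, true, false, true, false, false, false, false], 8, 0),
  ([true, false, false, true, true, false, false, false], 8, 3),
  ([true, false, true, true, true, false, false, false], 10, 3),
  ([true, false, false, false, true, true, false, false], 11, 4),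
  ([false, false, true, false, true, false, false, false], 12, 2),
  ([true, false, true, false, true, true, false, false], 12, 4),
  ([true, false, false, false, false, true, true, false], 13, 5),
  ([false, false, true, true, true, true, false, false], 14, 4),
  ([true, false, true, false, false, true, true, false], 15, 5),
  ([true, false, false, false, false, false, true, true], 16, 6),
  ([false, true, false, true, false, true, false, false], 17, 3),
  ([false, false, true, true, false, true, true, false], 17, 5),
  ([true, false, true, false, false, false, true, true], 18, 6),
  ([true, false, false, false, false, false, false, true], 19, 7),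
  ([false, true, false, false, false, true, false, false], 20, 1),
  ([false, true, false, true, true, true, true, false], 20, 5),
  ([false, false, true, true, false, false, true, true], 21, 6),
  ([true, false, true, false, false, false, false, true], 22, 7),
  ([false, true, false, false, true, true, true, false], 24, 5),
  ([false, true, false, false, true, false, true, false], 25, 4),
  ([false, true, false, true, true, false, true, true], 25, 6),
  ([false, false, true, true, false, false, false, true], 26, 7),
  ([false, true, false, true, true, false, true, false], 28, 4),
  ([false, true, false, false, true, false, true, true], 28, 6),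
  ([false, true, false, false, true, true, true, true], 29, 6),
  ([false, true, false, true, true, false, false, true], 30, 7),
  ([false, false, true, true, false, false, true, false], 32, 3),
  ([false, true, false, true, true, true, true, true], 32, 6),
  ([false, true, false, false, true, false, false, true], 33, 7),
  ([false, true, false, false, false, true, false, true], 34, 5),
  ([false, true, false, false, true, true, false, true], 34, 7),
  ([true, false, true, false, false, false, true, false], 36, 2),
  ([false, false, true, true, false, true, true, true], 36, 6),
  ([false, true, false, true, false, true, false, true], 37, 5),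
  ([false, true, false, true, true, true, false, true], 37, 7),
  ([false, true, false, false, false, true, true, true], 39, 7),
  ([true, false, false, false, false, false, true, false], 41, 0),
  ([true, false, true, false, false, true, true, true], 41, 6),
  ([false, false, true, true, true, true, false, true], 42, 5),
  ([false, false, true, true, false, true, false, true], 42, 7),
  ([false, true, false, true, false, true, true, true], 43, 7),
  ([false, true, false, false, false, false, true, false], 45, 6),
  ([true, false, false, false, false, true, true, true], 46, 6),
  ([true, false, true, false, true, true, false, true], 47, 5),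
  ([true, false, true, false, false, true, false, true], 47, 7),
  ([false, false, true, false, true, false, false, true], 48, 4),
  ([false, false, true, true, true, true, true, true], 48, 7),
  ([false, true, false, true, false, false, true, false], 50, 6),
  ([true, false, false, false, true, true, false, true], 52, 5),
  ([true, false, false, false, false, true, false, true], 52, 7),
  ([true, false, true, true, true, false, false, true], 53, 4),
  ([true, false, true, false, true, true, true, true], 53, 7),
  ([false, false, true, false, true, false, true, true], 55, 7),
  ([false, false, true, true, true, false, true, false], 56, 6),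
  ([true, false, false, true, true, false, false, true], 58, 4),
  ([true, false, false, false, true, true, true, true], 58, 7),
  ([true, true, false, true, false, false, false, true], 60, 3),
  ([true, false, true, true, true, false, true, true], 60, 7),
  ([true, false, true, false, true, false, true, false], 61, 6),
  ([false, false, true, false, true, true, true, false], 62, 6),
  ([true, true, true, true, false, false, false, true], 64, 3),
  ([true, false, false, true, true, false, true, true], 64, 7),
  ([true, false, false, false, true, false, true, false], 65, 6),
  ([true, true, false, false, false, false, false, true], 66, 1),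
  ([true, true, false, true, false, false, true, true], 66, 7),
  ([true, false, true, true, true, true, true, false], 67, 6),
  ([false, false, true, false, false, true, false, false], 69, 5),
  ([true, true, true, false, false, false, false, true], 70, 1),
  ([false, true, true, false, false, false, false, true], 70, 2),
  ([true, true, true, true, false, false, true, true], 70, 7),
  ([true, false, false, true, true, true, true, false], 71, 6),
  ([true, true, false, false, false, false, true, true], 73, 7),
  ([true, true, false, true, false, true, true, false], 74, 6),
  ([true, false, true, true, false, true, false, false], 75, 5),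
  ([false, true, true, true, false, false, false, true], 77, 2),
  ([true, true, true, false, false, false, true, true], 77, 7),
  ([false, true, true, false, false, false, true, true], 78, 7),
  ([true, true, true, true, false, true, true, false], 79, 6),
  ([true, false, false, true, false, true, false, false], 80, 5),
  ([true, true, false, false, false, true, true, false], 81, 6),
  ([true, true, false, true, true, true, false, false], 82, 5),
  ([false, false, false, true, true, false, false, true], 84, 3),
  ([false, true, true, true, false, false, true, true], 84, 7),
  ([true, true, true, false, false, true, true, false], 85, 6),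
  ([false, true, true, false, false, true, true, false], 86, 6),
  ([true, true, true, true, true, true, false, false], 87, 5),
  ([true, true, false, false, true, true, false, false], 89, 5),
  ([true, true, false, false, true, false, false, false], 90, 4),
  ([false, false, false, false, true, true, false, true], 91, 4),
  ([false, false, false, true, true, false, true, true], 91, 7),
  ([false, true, true, true, false, true, true, false], 92, 6),
  ([true, true, true, false, true, true, false, false], 93, 5),
  ([false, true, true, false, true, true, false, false], 94, 5),
  ([true, true, true, false, true, false, false, false], 95, 4),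
  ([true, true, false, true, true, false, false, false], 96, 4),
  ([false, false, false, false, false, true, true, true], 98, 5),
  ([false, false, false, false, true, true, true, true], 98, 7),
  ([false, false, false, true, true, true, true, false], 99, 6),
  ([false, true, true, true, true, true, false, false], 100, 5),
  ([true, true, true, true, true, false, false, false], 101, 4),
  ([false, true, true, true, true, false, false, false], 102, 4),
  ([true, false, true, true, false, false, false, false], 104, 3),
  ([false, false, false, false, false, false, true, false], 105, 6),
  ([false, false, false, false, false, true, false, true], 105, 7),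
  ([false, false, false, false, true, false, true, false], 106, 6),
  ([false, false, false, true, false, true, false, false], 107, 5),
  ([false, true, true, false, true, false, false, false], 108, 4),
  ([true, false, false, true, false, false, false, false], 109, 3),
  ([false, false, false, true, false, false, false, false], 110, 3),
  ([false, false, true, false, false, false, false, false], 111, 2)]

set_option maxHeartbeats 0 in
theorem treeE8_2_ok : TreeOK cartE8 chevE8.rank treeE8_2 := by
  unfold TreeOK
  decide +kernel

set_option maxHeartbeats 0 in
theorem reachE8 : ∀ b : Fin chevE8.rank → Bool, (∀ j, b j = false) ∨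
    List.ofFn b ∈ treeE8_1.map Prod.fst ∨ List.ofFn b ∈ treeE8_2.map Prod.fst := by decide +kernel

end CfsgLib.ChevInvol
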