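import Cfsg.Agent.Lib.ChevInvol.OrthCert
import Cfsg.Agent.Lib.Chev.Gen.ChkF4

/-!
The certificate for orthogonal sets of roots of F4.
-/

set_option autoImplicit false

namespace CfsgLib.ChevInvol

open Cfsg.Lie CfsgLib.Chev

/-- representatives and moves for orthogonal sets of roots -/
def orthF4 : OrthData := [
  ([],
   [],
   [(24, [], 1),
    (25, [2, 3], 1),
    (26, [2], 1),
    (27, [], 2),
    (28, [2], 2),
    (29, [2, 3], 2),
    (30, [2, 1, 3], 1),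
    (31, [2, 1], 1),
    (32, [2, 1, 2], 1),
    (33, [0, 1], 2),
    (34, [0], 2),
    (35, [0, 2], 2),
    (36, [0, 2, 3], 2),
    (37, [0, 2, 1], 2),
    (38, [0, 2, 1, 3], 2),
    (39, [0, 2, 1, 3, 2], 2),
    (40, [0, 2, 1, 3, 2, 1], 2),
    (41, [2, 1, 0, 3], 1),
    (42, [2, 1, 0], 1),
    (43, [2, 1, 0, 2], 1),
    (44, [0, 2, 1, 3, 2, 1, 0], 2),
    (45, [2, 1, 0, 2, 1], 1),
    (46, [2, 1, 0, 2, 1, 2], 1),
    (47, [2, 1, 0, 2, 1, 2, 3], 1)]),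
  ([24],
   [(32, 28), (43, 35), (45, 37)],
   [(27, [], 3),
    (33, [0, 1], 3),
    (34, [0], 3),
    (39, [0, 1, 2, 1, 2, 3, 2, 1, 2], 3),
    (40, [0, 2, 1, 2, 3, 2, 1, 2], 3),
    (44, [0, 2, 1, 2, 3, 2, 1, 0, 2], 3)]),
  ([27],
   [(28, 25), (29, 26), (44, 43)],
   [(24, [], 3),
    (32, [2, 1, 2], 3),
    (41, [0, 1, 2, 1, 0, 3], 3),
    (42, [0, 1, 2, 1, 0], 3),
    (46, [0, 1, 2, 1, 0, 2, 1, 2], 3),
    (47, [0, 1, 2, 1, 0, 2, 1, 2, 3], 3)]),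
  ([24, 27],
   [(32, 25), (44, 35)],
   [])]

set_option maxHeartbeats 0 in
theorem orthF4_ok : OrthOK chevF4 F4.tabs orthF4 := by
  unfold OrthOK ExtOK KillOK MoveOK
  decide +kernel

theorem orthPropF4 : OrthProp chevF4 F4.tabs :=
  orthProp_of_ok F4.checked orthF4_ok

end CfsgLib.ChevInvol
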