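import Cfsg.Agent.Lib.ChevInvol.Main
import Cfsg.Agent.Lib.ChevInvol.OrthF4
import Cfsg.Agent.Lib.Chev.OrderCases

/-!
The two classes of involutions of F4 over a field of odd order.
-/

set_option autoImplicit false
set_option linter.unusedSectionVars false

namespace CfsgLib.ChevInvol

open Cfsg.Lie CfsgLib.Chev CfsgLib.ChevCent

theorem hcommF4 : CommOne chevF4 F4.tabs := commOne_of_commCheck F4.checked F4.comm_ok F4.short_ok

/-- a left inverse of the Cartan matrix -/
def cinvF4 (i k : Fin chevF4.rank) : ℤ :=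
  (([[2, 3, 4, 2], [3, 6, 8, 4], [2, 4, 6, 3], [1, 2, 3, 2]] : List (List ℤ)).getD i.val []).getD k.val 0

theorem cinvF4_spec : ChevField.CartanInv chevF4 cinvF4 := by
  unfold ChevField.CartanInv
  decide +kernel

theorem diagF4 {F : Type*} [Field F] [Fintype F] :
    Nat.card ↥(chevF4.diagonalSubgroup F) = (Fintype.card F - 1) ^ 4 := by
  simpa using card_diagonal_F4 (F := F)

/-- the bits of a torus involution -/
def bitsF4_1 : List Bool := [false, true, false, false]

/-- the fundamental roots of the fixed subsystem -/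
def dlF4_1 : Fin 4 → Fin chevF4.nroots := fun k =>
  ⟨([24, 25, 30, 33] : List ℕ).getD k.val 0 % chevF4.nroots, Nat.mod_lt _ (by decide +kernel)⟩

/-- the Cartan matrix of the fixed subsystem -/
def cartF4_1 : List (List ℤ) := [[2, -1, -1, 0], [-1, 2, 0, 0], [-1, 0, 2, -1], [0, 0, -2, 2]]

/-- the coordinate change -/
def minvF4_1 : List (List ℤ) := [[0, 0, 0, 2], [0, -1, 1, 0], [0, 2, 0, 0], [2, 0, 0, 0]]

set_option maxHeartbeats 0 in
theorem subOKF4_1 : SubOK chevF4 F4.tabs (bitsOf chevF4 bitsF4_1) dlF4_1 cartF4_1 minvF4_1 2 where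
  d_pos := by norm_num
  dl_pos := by decide +kernel
  dl_scaled := by decide +kernel
  span := by decide +kernel
  coords := by decide +kernel
  cartan := by decide +kernel
  auts := by decide +kernel

theorem posBF4_1_card : (posB chevF4 F4.tabs (bitsOf chevF4 bitsF4_1)).card = 16 := by
  decide +kernel

set_option maxHeartbeats 0 in
theorem wsumF4_1 (x : ℕ) :
    (subSys F4.checked subOKF4_1).wsumS [0, 1, 2, 3] x =
      polyEval [1, 1, 1, 2, 2, 2, 2, 2, 1, 1, 1] x * polyEval [1, 1, 1, 1] x * polyEval [1, 1, 1] x * polyEval [1, 1] x := by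
  have s0 := (subSys F4.checked subOKF4_1).wsumS_step' ([] : List (Fin 4)) 0
    (by decide +kernel) (m := 2) (by norm_num) [1, 1] (by decide +kernel) x
  have s1 := (subSys F4.checked subOKF4_1).wsumS_step' ([0] : List (Fin 4)) 1
    (by decide +kernel) (m := 3) (by norm_num) [1, 1, 1] (by decide +kernel) x
  have s2 := (subSys F4.checked subOKF4_1).wsumS_step' ([0, 1] : List (Fin 4)) 2
    (by decide +kernel) (m := 4) (by norm_num) [1, 1, 1, 1] (by decide +kernel) x
  have s3 := (subSys F4.checked subOKF4_1).wsumS_step' ([0, 1, 2] : List (Fin 4)) 3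
    (by decide +kernel) (m := 11) (by norm_num) [1, 1, 1, 2, 2, 2, 2, 2, 1, 1, 1] (by decide +kernel) x
  simp only [List.cons_append, List.nil_append] at s0 s1 s2 s3
  rw [s3, s2, s1, s0, SubSys.wsumS_nil _ 0, mul_one]
  simp only [mul_assoc]

set_option maxHeartbeats 0 in
theorem centF4_1 {F : Type*} [Field F] [Fintype F] (h2 : (2 : F) ≠ 0) {q : ℕ} (hq : Fintype.card F = q) :
    Nat.card {g : GL chevF4.Idx F // g ∈ chevF4.group F ∧ tB chevF4 F4.tabs F (bitsOf chevF4 bitsF4_1) * g =
      g * tB chevF4 F4.tabs F (bitsOf chevF4 bitsF4_1)} = q ^ 16 * ((q ^ 2 - 1) * (q ^ 4 - 1) * (q ^ 6 - 1) * (q ^ 8 - 1)) := by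
  classical
  have hq2 : 2 ≤ q := hq ▸ Fintype.one_lt_card
  rw [card_centralizer F4.checked hcommF4 h2 cinvF4_spec, posBF4_1_card, diagF4,
    ← (subSys F4.checked subOKF4_1).wsumS_full (J := [0, 1, 2, 3]) (by decide), wsumF4_1, hq, mul_assoc]
  congr 1
  zify [Nat.one_le_pow _ q (by omega), (by omega : 1 ≤ q)]
  simp only [polyEval]
  push_cast
  ring

/-- the bits of a torus involution -/
def bitsF4_2 : List Bool := [false, false, false, true]

/-- the fundamental roots of the fixed subsystem -/
def dlF4_2 : Fin 4 → Fin chevF4.nroots := fun k =>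
  ⟨([25, 27, 33, 47] : List ℕ).getD k.val 0 % chevF4.nroots, Nat.mod_lt _ (by decide +kernel)⟩

/-- the Cartan matrix of the fixed subsystem -/
def cartF4_2 : List (List ℤ) := [[2, -1, 0, 0], [-2, 2, -1, 0], [0, -1, 2, 0], [0, 0, 0, 2]]

/-- the coordinate change -/
def minvF4_2 : List (List ℤ) := [[0, 0, 2, 0], [0, 2, 0, 0], [2, 0, 0, 0], [-3, -4, -2, 1]]

set_option maxHeartbeats 0 in
theorem subOKF4_2 : SubOK chevF4 F4.tabs (bitsOf chevF4 bitsF4_2) dlF4_2 cartF4_2 minvF4_2 2 where
  d_pos := by norm_num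
  dl_pos := by decide +kernel
  dl_scaled := by decide +kernel
  span := by decide +kernel
  coords := by decide +kernel
  cartan := by decide +kernel
  auts := by decide +kernel

theorem posBF4_2_card : (posB chevF4 F4.tabs (bitsOf chevF4 bitsF4_2)).card = 10 := by
  decide +kernel

set_option maxHeartbeats 0 in
theorem wsumF4_2 (x : ℕ) :
    (subSys F4.checked subOKF4_2).wsumS [0, 1, 2, 3] x =
      polyEval [1, 1] x * polyEval [1, 1, 1, 1, 1, 1] x * polyEval [1, 1, 1, 1] x * polyEval [1, 1] x := by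
  have s0 := (subSys F4.checked subOKF4_2).wsumS_step' ([] : List (Fin 4)) 0
    (by decide +kernel) (m := 2) (by norm_num) [1, 1] (by decide +kernel) x
  have s1 := (subSys F4.checked subOKF4_2).wsumS_step' ([0] : List (Fin 4)) 1
    (by decide +kernel) (m := 4) (by norm_num) [1, 1, 1, 1] (by decide +kernel) x
  have s2 := (subSys F4.checked subOKF4_2).wsumS_step' ([0, 1] : List (Fin 4)) 2
    (by decide +kernel) (m := 6) (by norm_num) [1, 1, 1, 1, 1, 1] (by decide +kernel) x
  have s3 := (subSys F4.checked subOKF4_2).wsumS_step' ([0, 1, 2] : List (Fin 4)) 3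
    (by decide +kernel) (m := 2) (by norm_num) [1, 1] (by decide +kernel) x
  simp only [List.cons_append, List.nil_append] at s0 s1 s2 s3
  rw [s3, s2, s1, s0, SubSys.wsumS_nil _ 0, mul_one]
  simp only [mul_assoc]

set_option maxHeartbeats 0 in
theorem centF4_2 {F : Type*} [Field F] [Fintype F] (h2 : (2 : F) ≠ 0) {q : ℕ} (hq : Fintype.card F = q) :
    Nat.card {g : GL chevF4.Idx F // g ∈ chevF4.group F ∧ tB chevF4 F4.tabs F (bitsOf chevF4 bitsF4_2) * g =
      g * tB chevF4 F4.tabs F (bitsOf chevF4 bitsF4_2)} = q ^ 10 * ((q ^ 2 - 1) * (q ^ 2 - 1) * (q ^ 4 - 1) * (q ^ 6 - 1)) := by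
  classical
  have hq2 : 2 ≤ q := hq ▸ Fintype.one_lt_card
  rw [card_centralizer F4.checked hcommF4 h2 cinvF4_spec, posBF4_2_card, diagF4,
    ← (subSys F4.checked subOKF4_2).wsumS_full (J := [0, 1, 2, 3]) (by decide), wsumF4_2, hq, mul_assoc]
  congr 1
  zify [Nat.one_le_pow _ q (by omega), (by omega : 1 ≤ q)]
  simp only [polyEval]
  push_cast
  ring

/-- the orbit of a vector of bits under the Weyl group -/
def treeF4_1 : List (List Bool × ℕ × ℕ) := [
  ([false, true, false, false], 0, 0),
  ([true, true, false, false], 0, 1),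
  ([true, false, false, false], 1, 0)]

set_option maxHeartbeats 0 in
theorem treeF4_1_ok : TreeOK cartF4 chevF4.rank treeF4_1 := by
  unfold TreeOK
  decide +kernel

/-- the orbit of a vector of bits under the Weyl group -/
def treeF4_2 : List (List Bool × ℕ × ℕ) := [
  ([false, false, false, true], 0, 0),
  ([false, false, true, true], 0, 3),
  ([false, true, true, false], 1, 2),
  ([true, true, true, false], 2, 1),
  ([true, false, true, false], 3, 0),
  ([true, false, true, true], 3, 2),
  ([true, true, true, true], 4, 2),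
  ([true, false, false, true], 5, 3),
  ([false, true, true, true], 6, 1),
  ([true, true, false, true], 6, 3),
  ([false, false, true, false], 8, 2),
  ([false, true, false, true], 8, 3)]

set_option maxHeartbeats 0 in
theorem treeF4_2_ok : TreeOK cartF4 chevF4.rank treeF4_2 := by
  unfold TreeOK
  decide +kernel

set_option maxHeartbeats 0 in
theorem reachF4 : ∀ b : Fin chevF4.rank → Bool, (∀ j, b j = false) ∨
    List.ofFn b ∈ treeF4_1.map Prod.fst ∨ List.ofFn b ∈ treeF4_2.map Prod.fst := by decide +kernel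

end CfsgLib.ChevInvol
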