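import Cfsg.Agent.Lib.Chev.Structure
import Cfsg.Agent.Lib.Chev.WeylSum
import Cfsg.Agent.Lib.Chev.Bruhat
import Cfsg.Agent.Lib.Chev.BN
import Cfsg.Agent.Lib.ChevSL2.Hom

/-!
The pairing of a coroot with a vector of the root lattice, the reflection in an arbitrary root, and the
action of the Weyl elements of arbitrary roots on root elements.
-/

set_option autoImplicit false
set_option linter.unusedSectionVars false

namespace CfsgLib.ChevInvol

open Cfsg.Lie CfsgLib.Chev

variable {D : ChevalleyDatum} {T : Tabs} {F : Type*} [Field F]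

/-- the value of the coroot of `r` on a vector -/
noncomputable def pv (D : ChevalleyDatum) (T : Tabs) (r : ℕ) (v : Fin D.rank → ℤ) : ℤ :=
  ∑ j, v j * ∑ k : Fin D.rank, cv T r k * cm D k j

/-- the reflection in the root `r` -/
noncomputable def rr (D : ChevalleyDatum) (T : Tabs) (r : ℕ) (v : Fin D.rank → ℤ) : Fin D.rank → ℤ :=
  v - pv D T r v • rv D T r

theorem pv_add (r : ℕ) (v w : Fin D.rank → ℤ) : pv D T r (v + w) = pv D T r v + pv D T r w := by
  simp [pv, add_mul, Finset.sum_add_distrib]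

theorem pv_smul (r : ℕ) (c : ℤ) (v : Fin D.rank → ℤ) : pv D T r (c • v) = c * pv D T r v := by
  simp [pv, Finset.mul_sum, mul_assoc]

theorem pv_zero (r : ℕ) : pv D T r (0 : Fin D.rank → ℤ) = 0 := by simp [pv]

theorem pv_neg_vec (r : ℕ) (v : Fin D.rank → ℤ) : pv D T r (-v) = -pv D T r v := by simp [pv]

theorem pv_sub (r : ℕ) (v w : Fin D.rank → ℤ) : pv D T r (v - w) = pv D T r v - pv D T r w := by
  rw [sub_eq_add_neg, pv_add, pv_neg_vec, sub_eq_add_neg]

theorem rr_add (r : ℕ) (v w : Fin D.rank → ℤ) : rr D T r (v + w) = rr D T r v + rr D T r w := by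
  simp only [rr, pv_add, add_smul]; abel

theorem rr_smul (r : ℕ) (c : ℤ) (v : Fin D.rank → ℤ) : rr D T r (c • v) = c • rr D T r v := by
  simp only [rr, pv_smul, smul_sub, mul_smul]

theorem chi_corChar_vec (r : ℕ) (t : Fˣ) (v : Fin D.rank → ℤ) :
    chi (corChar D T r t) v = t ^ pv D T r v := by
  simp only [chi, corChar, ← zpow_mul]
  rw [prod_zpow_sum, pv]
  congr 1
  exact Finset.sum_congr rfl fun j _ => mul_comm _ _

section
variable (hc : Checked D T)
include hc

theorem refl_neg (i : Fin D.rank) (v : Fin D.rank → ℤ) : refl D i (-v) = -refl D i v := by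
  rw [← neg_one_smul ℤ v, refl_smul, neg_one_smul]

theorem pv_simple (i : Fin D.rank) (v : Fin D.rank → ℤ) : pv D T (D.simple i.val) v = ∑ j, cm D i j * v j := by
  refine Finset.sum_congr rfl fun j _ => ?_
  rw [Finset.sum_eq_single i]
  · rw [cv_simple hc i.2 i.2, if_pos rfl, one_mul, mul_comm]
  · intro k _ hk; rw [cv_simple hc i.2 k.2, if_neg (fun h => hk (Fin.ext h.symm)), zero_mul]
  · simp

theorem rr_simple (i : Fin D.rank) (v : Fin D.rank → ℤ) : rr D T (D.simple i.val) v = refl D i v := by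
  rw [rr, pv_simple hc, rv_simple hc, CfsgLib.Chev.refl, ← Pi.single_smul, smul_eq_mul, mul_one]

theorem pv_sig (i : Fin D.rank) {r : ℕ} (hr : r < D.nroots) (v : Fin D.rank → ℤ) :
    pv D T (sig D T i r) v = pv D T r (refl D i v) := by
  have hcv := (refl_spec hc i hr).2.2.2
  set S : Fin D.rank → ℤ := fun j => ∑ k : Fin D.rank, cv T r k * cm D k j with hS
  have h1 : ∀ j, (∑ k : Fin D.rank, cv T (sig D T i r) k * cm D k j) = S j - S i * cm D i j := by
    intro j
    simp only [hcv, sub_mul, Finset.sum_sub_distrib, ite_mul, zero_mul, Finset.sum_ite_eq', Finset.mem_univ,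
      if_true, hS]
  show ∑ j, v j * _ = ∑ j, refl D i v j * S j
  simp only [h1, CfsgLib.Chev.refl, Pi.sub_apply, sub_mul, mul_sub, Finset.sum_sub_distrib]
  congr 1
  rw [Finset.sum_eq_single (f := fun j => (Pi.single i (∑ k, cm D i k * v k) : Fin D.rank → ℤ) j * S j) i
    (fun b _ hb => by simp [hb]) (by simp), Pi.single_eq_same, Finset.sum_mul]
  exact Finset.sum_congr rfl fun j _ => by ring

theorem pv_sig_refl (i : Fin D.rank) {r : ℕ} (hr : r < D.nroots) (v : Fin D.rank → ℤ) :
    pv D T (sig D T i r) (refl D i v) = pv D T r v := by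
  rw [pv_sig hc i hr, refl_refl hc]

theorem pv_sigs (L : List (Fin D.rank)) {r : ℕ} (hr : r < D.nroots) (v : Fin D.rank → ℤ) :
    pv D T (sigs D T L r) (refls D L v) = pv D T r v := by
  induction L with
  | nil => rfl
  | cons i L ih => rw [sigs_cons, ← ih]; exact pv_sig_refl hc i (sigs_lt hc L hr) _

theorem pv_self {r : ℕ} (hr : r < D.nroots) : pv D T r (rv D T r) = 2 := by
  rw [← coroot_pair_self hc hr, pv]
  simp only [Finset.mul_sum]
  rw [Finset.sum_comm]
  refine Finset.sum_congr rfl fun k _ => ?_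
  rw [cartan_linear hc k hr, Finset.mul_sum]
  exact Finset.sum_congr rfl fun j _ => by ring

theorem pv_neg {r : ℕ} (hr : r < D.nroots) (v : Fin D.rank → ℤ) : pv D T (D.neg r) v = -pv D T r v := by
  revert v
  refine root_induction hc (P := fun r => ∀ v, pv D T (D.neg r) v = -pv D T r v) (fun i v => ?_)
    (fun i s hs hP v => ?_) hr
  · have hp := simple_lt hc i.2
    rw [← sig_simple hc i (T := T), pv_sig hc i hp, pv_simple hc, pv_simple hc]
    simp only [CfsgLib.Chev.refl, Pi.sub_apply, mul_sub, Finset.sum_sub_distrib, Pi.single_apply, mul_ite, mul_zero,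
      Finset.sum_ite_eq', Finset.mem_univ, if_true, cm_self hc]
    ring
  · rw [← sig_neg hc i hs, pv_sig hc i (neg_lt hc hs), hP, pv_sig hc i hs]

theorem rr_self {r : ℕ} (hr : r < D.nroots) : rr D T r (rv D T r) = -rv D T r := by
  rw [rr, pv_self hc hr]; module

theorem rr_rr {r : ℕ} (hr : r < D.nroots) (v : Fin D.rank → ℤ) : rr D T r (rr D T r v) = v := by
  simp only [rr, pv_sub, pv_smul, pv_self hc hr]; module

theorem rr_sig (i : Fin D.rank) {r : ℕ} (hr : r < D.nroots) (v : Fin D.rank → ℤ) :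
    rr D T (sig D T i r) v = refl D i (rr D T r (refl D i v)) := by
  rw [rr, rr, pv_sig hc i hr, rv_sig hc i hr]
  conv_rhs => rw [sub_eq_add_neg, refl_add, refl_neg hc, refl_smul, refl_refl hc]
  rw [sub_eq_add_neg]

/-- the Weyl word of the reflection in a root, with the action of the Weyl element on root elements -/
theorem exists_refl_word {r : ℕ} (hr : r < D.nroots) :
    ∃ L : List (Fin D.rank), (∀ s, s < D.nroots → rv D T (sigs D T L s) = rr D T r (rv D T s)) ∧
      ∀ v, refls D L v = rr D T r v := by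
  refine root_induction hc (P := fun r => ∃ L : List (Fin D.rank),
    (∀ s, s < D.nroots → rv D T (sigs D T L s) = rr D T r (rv D T s)) ∧ ∀ v, refls D L v = rr D T r v)
    (fun i => ⟨[i], fun s hs => ?_, fun v => ?_⟩) (fun i r hr ⟨L, hL, hL'⟩ => ⟨i :: L ++ [i], fun s hs => ?_, fun v => ?_⟩) hr
  · rw [rr_simple hc]; exact rv_sig hc i hs
  · rw [rr_simple hc]; rfl
  · rw [rr_sig hc i hr, sigs_append, sigs_cons, show sigs D T [i] s = sig D T i s from rfl,
      rv_sig hc i (sigs_lt hc L (sig_lt hc i hs)), hL _ (sig_lt hc i hs), rv_sig hc i hs]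
  · rw [rr_sig hc i hr, refls_append, show refls D [i] v = refl D i v from rfl]
    show refl D i (refls D L (refl D i v)) = _
    rw [hL']

end

/-- `g` maps the root elements of each root `s` and of its negative to those of `σ s` with the same sign -/
def Flip (D : ChevalleyDatum) (F : Type*) [Field F] (g : GL D.Idx F) (σ : ℕ → ℕ) : Prop :=
  ∀ s, s < D.nroots → σ s < D.nroots ∧ ∃ c : F, (c = 1 ∨ c = -1) ∧ ∀ t : F,
    g * elX D F s t * g⁻¹ = elX D F (σ s) (c * t) ∧
    g * elX D F (D.neg s) t * g⁻¹ = elX D F (D.neg (σ s)) (c * t)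

theorem Flip.mul {g g' : GL D.Idx F} {σ σ' : ℕ → ℕ} (h : Flip D F g σ) (h' : Flip D F g' σ') :
    Flip D F (g * g') (σ ∘ σ') := by
  intro s hs
  obtain ⟨hs', c', hc', e'⟩ := h' s hs
  obtain ⟨hs'', c, hcc, e⟩ := h _ hs'
  refine ⟨hs'', c * c', ?_, fun t => ?_⟩
  · rcases hc' with rfl | rfl <;> rcases hcc with rfl | rfl <;> simp
  · rw [show ∀ x : GL D.Idx F, g * g' * x * (g * g')⁻¹ = g * (g' * x * g'⁻¹) * g⁻¹ from fun x => by group,
      show ∀ x : GL D.Idx F, g * g' * x * (g * g')⁻¹ = g * (g' * x * g'⁻¹) * g⁻¹ from fun x => by group,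
      (e' t).1, (e' t).2, (e _).1, (e _).2, mul_assoc]
    exact ⟨rfl, rfl⟩

section
variable (hc : Checked D T)
include hc

theorem flip_nProd (L : List (Fin D.rank)) : Flip D F (nProd D F L) (sigs D T L) := by
  intro s hs
  obtain ⟨c, h1, h⟩ := nProd_conj_elX_pair hc (F := F) L hs
  exact ⟨sigs_lt hc L hs, c, h1, h⟩

theorem flip_torus_sign (r : ℕ) : Flip D F (torus D T F (corChar D T r (-1))) id := by
  intro s hs
  refine ⟨hs, ((-1 : Fˣ) ^ pv D T r (rv D T s) : Fˣ), ?_, fun t => ?_⟩
  · rcases Int.even_or_odd (pv D T r (rv D T s)) with h | h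
    · left; rw [h.neg_one_zpow]; rfl
    · right; rw [h.neg_one_zpow]; simp
  · rw [torus_conj_elX hc _ hs, torus_conj_elX hc _ (neg_lt hc hs), rv_neg hc hs, chi_corChar_vec, chi_corChar_vec,
      pv_neg_vec]
    refine ⟨rfl, ?_⟩
    rw [zpow_neg, ← inv_zpow, inv_neg, inv_one]
    rfl

/-- the action of the Weyl element of an arbitrary root -/
theorem exists_flip_elN {r : ℕ} (hr : r < D.nroots) :
    ∃ σ : ℕ → ℕ, Flip D F (elN D F r (1 : F)) σ ∧ ∀ s, s < D.nroots → rv D T (σ s) = rr D T r (rv D T s) := by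
  refine root_induction hc (P := fun r => ∃ σ : ℕ → ℕ,
    Flip D F (elN D F r (1 : F)) σ ∧ ∀ s, s < D.nroots → rv D T (σ s) = rr D T r (rv D T s))
    (fun i => ⟨sigs D T [i], ?_, fun s hs => ?_⟩) (fun i r hr hP => ?_) hr
  · have h := flip_nProd hc (F := F) [i]
    rwa [show nProd D F [i] = elN D F (D.simple i.val) 1 by simp [nProd_cons]] at h
  · rw [rr_simple hc]; exact rv_sig hc i hs
  obtain ⟨σ, hf, hσ⟩ := hP
  set n := elN D F (D.simple i.val) (1 : F) with hn
  set h : GL D.Idx F := torus D T F (corChar D T (sig D T i r) (-1))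
  have hfn : Flip D F n (sigs D T [i]) := by
    have h := flip_nProd hc (F := F) [i]
    rwa [show nProd D F [i] = n by simp [nProd_cons, n]] at h
  have hfn' : Flip D F n⁻¹ (sigs D T [i]) := by
    have h1 := (flip_torus_sign hc (F := F) (D.simple i.val)).mul hfn
    have e : torus D T F (corChar D T (D.simple i.val) (-1)) * n = n⁻¹ := by
      rw [hn, elN_inv hc (simple_lt hc i.2), show (-(1 : F)) = ((-1 : Fˣ) : F) by simp,
        elN_eq_mul hc (simple_lt hc i.2) (-1)]
    rwa [e] at h1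
  have hbase : Flip D F (n * elN D F r (1 : F) * n⁻¹) (sigs D T [i] ∘ σ ∘ sigs D T [i]) := (hfn.mul hf).mul hfn'
  rw [hn, nOne_conj_elN hc i hr, mul_one] at hbase
  have hrv : ∀ s, s < D.nroots →
      rv D T ((sigs D T [i] ∘ σ ∘ sigs D T [i]) s) = rr D T (sig D T i r) (rv D T s) := fun s hs => by
    show rv D T (sig D T i (σ (sig D T i s))) = _
    have h1 := sig_lt hc i hs (T := T)
    rw [rv_sig hc i (hf _ h1).1, hσ _ h1, rv_sig hc i hs, rr_sig hc i hr]
  refine ⟨_, ?_, hrv⟩
  rcases eta_cast hc (F := F) i hr with e | e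
  · rwa [e] at hbase
  · rw [e] at hbase
    have h1 := (flip_torus_sign hc (F := F) (sig D T i r)).mul hbase
    have e2 : torus D T F (corChar D T (sig D T i r) (-1)) * elN D F (sig D T i r) (-1 : F) =
        elN D F (sig D T i r) (1 : F) := by
      rw [show (-(1 : F)) = ((-1 : Fˣ) : F) by simp, elN_eq_mul hc (sig_lt hc i hr) (-1), ← mul_assoc, ← map_mul,
        ← corChar_mul, neg_mul_neg, one_mul, corChar_one, map_one, one_mul]
    rwa [e2, Function.id_comp] at h1

end

end CfsgLib.ChevInvol
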