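import Cfsg.Agent.Lib.G2Invol.SL2
import Cfsg.Agent.Lib.ChevInvol.Pairing

/-!
An element of the monomial subgroup exchanging the root subgroups of a root and of its negative acts on
the attached SL(2) as the conjugation by an antidiagonal matrix.
-/

set_option autoImplicit false
set_option linter.unusedSectionVars false

namespace CfsgLib.ChevInvol

open Cfsg.Lie CfsgLib.Chev CfsgLib.ChevSL2 CfsgLib.G2Invol CfsgLib.SteinbergTwo
open Matrix

variable {D : ChevalleyDatum} {T : Tabs} {F : Type*} [Field F]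

/-- the conjugation by `!![0, 1; c, 0]` -/
noncomputable def tauFun (c : Fˣ) (g : SpecialLinearGroup (Fin 2) F) : SpecialLinearGroup (Fin 2) F :=
  ⟨!![g 1 1, g 1 0 * (c⁻¹ : Fˣ); (c : F) * g 0 1, g 0 0], by
    have h : g 0 0 * g 1 1 - g 0 1 * g 1 0 = 1 := by rw [← det_fin_two]; exact g.2
    have hcc : ((c⁻¹ : Fˣ) : F) * c = 1 := by simp
    rw [det_fin_two_of]
    linear_combination h - g 0 1 * g 1 0 * hcc⟩

theorem coe_tauFun (c : Fˣ) (g : SpecialLinearGroup (Fin 2) F) :
    (tauFun c g : Matrix (Fin 2) (Fin 2) F) = !![g 1 1, g 1 0 * (c⁻¹ : Fˣ); (c : F) * g 0 1, g 0 0] := rfl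

/-- the conjugation by `!![0, 1; c, 0]` as an endomorphism -/
noncomputable def tau (c : Fˣ) : SpecialLinearGroup (Fin 2) F →* SpecialLinearGroup (Fin 2) F where
  toFun := tauFun c
  map_one' := by
    ext i j
    fin_cases i <;> fin_cases j <;> simp [coe_tauFun]
  map_mul' g h := by
    have hcc : ((c⁻¹ : Fˣ) : F) * c = 1 := by simp
    ext i j
    fin_cases i <;> fin_cases j <;>
      simp [coe_tauFun, SpecialLinearGroup.coe_mul, mul_apply, Fin.sum_univ_two] <;> field_simp <;> ring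

theorem coe_tau (c : Fˣ) (g : SpecialLinearGroup (Fin 2) F) :
    (tau c g : Matrix (Fin 2) (Fin 2) F) = !![g 1 1, g 1 0 * (c⁻¹ : Fˣ); (c : F) * g 0 1, g 0 0] := rfl

theorem tau_img (c : Fˣ) (b : Bool) (t : F) :
    tau c (img F (b, t)) = img F (!b, (if b then (c : F) else (c⁻¹ : Fˣ)) * t) := by
  cases b <;> (ext i j; fin_cases i <;> fin_cases j <;> simp [coe_tau, coe_img, mul_comm])

theorem tau_ww (c : Fˣ) (t : F) (ht : t ≠ 0) :
    tau c (ww t ht) = ww (-((c : F) * t)⁻¹) (neg_ne_zero.2 (inv_ne_zero (mul_ne_zero c.ne_zero ht))) := by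
  ext i j
  fin_cases i <;> fin_cases j <;> simp [coe_tau, coe_ww, mul_comm]

/-- the element carrying the antidiagonal conjugation to a diagonal one -/
theorem exists_square_step (h2 : (2 : F) ≠ 0) (e : Fˣ) :
    ∃ g : SpecialLinearGroup (Fin 2) F,
      ww ((e : F)⁻¹) (inv_ne_zero e.ne_zero) * tau (e * e) g = g := by
  obtain ⟨g, hg⟩ : ∃ g : SpecialLinearGroup (Fin 2) F,
      (g : Matrix (Fin 2) (Fin 2) F) = !![(2 : F)⁻¹, (2 * (e : F))⁻¹; -(e : F), 1] :=
    ⟨⟨_, by rw [det_fin_two_of]; field_simp; ring⟩, rfl⟩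
  refine ⟨g, ?_⟩
  ext i j
  fin_cases i <;> fin_cases j <;>
    simp [SpecialLinearGroup.coe_mul, coe_ww, coe_tau, hg, mul_apply, Fin.sum_univ_two] <;> field_simp

/-- the element negated by the antidiagonal conjugation -/
theorem exists_flip_step [Fintype F] (hodd : Fintype.card F % 2 = 1) (c : Fˣ) :
    ∃ g : SpecialLinearGroup (Fin 2) F, dd (-1) * tau c g = g := by
  obtain ⟨b, a, hab⟩ : ∃ b a : F, (c : F) * b ^ 2 - a ^ 2 = 1 := by
    obtain ⟨X, Y, hXY⟩ := FiniteField.exists_root_sum_quadratic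
      (f := Polynomial.C (c : F) * Polynomial.X ^ 2)
      (g := Polynomial.C (-1 : F) * Polynomial.X ^ 2 + Polynomial.C (-1))
      (by rw [Polynomial.degree_C_mul_X_pow _ c.ne_zero]; rfl)
      (by
        rw [Polynomial.degree_add_eq_left_of_degree_lt] <;>
          rw [Polynomial.degree_C_mul_X_pow _ (neg_ne_zero.2 one_ne_zero)]
        · rfl
        · exact lt_of_le_of_lt Polynomial.degree_C_le (by decide))
      hodd
    simp only [Polynomial.eval_add, Polynomial.eval_mul, Polynomial.eval_C, Polynomial.eval_pow,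
      Polynomial.eval_X] at hXY
    exact ⟨X, Y, by linear_combination hXY⟩
  obtain ⟨g, hg⟩ : ∃ g : SpecialLinearGroup (Fin 2) F,
      (g : Matrix (Fin 2) (Fin 2) F) = !![a, b; -((c : F) * b), -a] :=
    ⟨⟨_, by rw [det_fin_two_of]; linear_combination hab⟩, rfl⟩
  refine ⟨g, ?_⟩
  ext i j
  fin_cases i <;> fin_cases j <;>
    simp [SpecialLinearGroup.coe_mul, coe_dd, coe_tau, hg, mul_apply, Fin.sum_univ_two] <;> field_simp

section
variable (hc : Checked D T) {r : ℕ} (hr : r < D.nroots)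
include hc hr

/-- the induced action on SL(2) -/
theorem hom_tau (φ : SpecialLinearGroup (Fin 2) F →* GL D.Idx F)
    (hφ : ∀ b t, φ (img F (b, t)) = rootPair D F r b t) {m : GL D.Idx F} {c : Fˣ}
    (h1 : ∀ t : F, m * elX D F r t * m⁻¹ = elX D F (D.neg r) ((c : F) * t))
    (h2 : ∀ t : F, m * elX D F (D.neg r) t * m⁻¹ = elX D F r (((c⁻¹ : Fˣ) : F) * t))
    (g : SpecialLinearGroup (Fin 2) F) : m * φ g * m⁻¹ = φ (tau c g) := by
  have h : (MulAut.conj m).toMonoidHom.comp φ = φ.comp (tau c) := by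
    refine MonoidHom.eq_of_eqOn_dense (closure_img F) ?_
    rintro _ ⟨b, t, rfl⟩
    simp only [MonoidHom.comp_apply, MulEquiv.coe_toMonoidHom, MulAut.conj_apply, tau_img, hφ]
    cases b
    · simp only [rootPair, Bool.not_false, Bool.false_eq_true, if_false, if_true, h2]
    · simp only [rootPair, Bool.not_true, Bool.false_eq_true, if_false, if_true, h1]
  exact DFunLike.congr_fun h g

theorem hom_mem_group (φ : SpecialLinearGroup (Fin 2) F →* GL D.Idx F)
    (hφ : ∀ b t, φ (img F (b, t)) = rootPair D F r b t) (g : SpecialLinearGroup (Fin 2) F) :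
    φ g ∈ D.group F := by
  have h : Subgroup.closure {g : SpecialLinearGroup (Fin 2) F | ∃ b t, g = img F (b, t)} ≤ (D.group F).comap φ := by
    rw [Subgroup.closure_le]
    rintro _ ⟨b, t, rfl⟩
    rw [SetLike.mem_coe, Subgroup.mem_comap, hφ]
    cases b
    · exact elX_mem_group hc (neg_lt hc hr) t
    · exact elX_mem_group hc hr t
  exact h (closure_img F ▸ Subgroup.mem_top g)

end

end CfsgLib.ChevInvol
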