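import Cfsg.Agent.Lib.Chev.Order
import Cfsg.Agent.Lib.Chev.BN
import Mathlib.GroupTheory.OrderOfElement

/-!
Over a finite field of odd order every involution of a Chevalley group is conjugate into the monomial subgroup.
-/

set_option autoImplicit false
set_option linter.unusedSectionVars false

namespace CfsgLib.ChevInvol

open Cfsg.Lie CfsgLib.Chev

variable {D : ChevalleyDatum} {T : Tabs} {F : Type*} [Field F]

/-- conjugacy under the Chevalley group -/
def GConj (D : ChevalleyDatum) (a b : GL D.Idx F) : Prop := ∃ g ∈ D.group F, g * a * g⁻¹ = b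

theorem GConj.refl (a : GL D.Idx F) : GConj D a a := ⟨1, one_mem _, by group⟩

theorem GConj.symm {a b : GL D.Idx F} (h : GConj D a b) : GConj D b a := by
  obtain ⟨g, hg, rfl⟩ := h
  exact ⟨g⁻¹, inv_mem hg, by group⟩

theorem GConj.trans {a b c : GL D.Idx F} (h : GConj D a b) (h' : GConj D b c) : GConj D a c := by
  obtain ⟨g, hg, rfl⟩ := h
  obtain ⟨k, hk, rfl⟩ := h'
  exact ⟨k * g, mul_mem hk hg, by group⟩

theorem GConj.sq {a b : GL D.Idx F} (h : GConj D a b) (ha : a * a = 1) : b * b = 1 := by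
  obtain ⟨g, -, rfl⟩ := h
  rw [show g * a * g⁻¹ * (g * a * g⁻¹) = g * (a * a) * g⁻¹ by group, ha]; group

/-- An element inverted by an involution and of odd order is removed by conjugation. -/
theorem conj_of_inverted {G : Type*} [Group G] {m y : G} (hy : Odd (orderOf y)) (hm : m * y * m⁻¹ = y⁻¹) :
    ∃ k : ℕ, y ^ k * (m * y) * (y ^ k)⁻¹ = m := by
  obtain ⟨j, hj⟩ := hy
  refine ⟨j + 1, ?_⟩
  have h2 : (y ^ (j + 1)) * (y ^ (j + 1)) = y := by
    rw [← pow_add, show j + 1 + (j + 1) = orderOf y + 1 by omega, pow_succ, pow_orderOf_eq_one, one_mul]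
  set z := y ^ (j + 1)
  have hz : m * z * m⁻¹ = z⁻¹ := by
    rw [show z = y ^ (j + 1) from rfl, ← conj_pow, hm, inv_pow]
  calc z * (m * y) * z⁻¹ = z * (m * (z * z)) * z⁻¹ := by rw [h2]
    _ = z * (m * z * m⁻¹) * m := by group
    _ = m := by rw [hz, mul_inv_cancel, one_mul]

section
variable (hc : Checked D T) (hcomm : CommOne D T)
include hc hcomm

/-- every involution is conjugate into the monomial subgroup -/
theorem exists_conj_monomial [Fintype F] (hF : Odd (Fintype.card F)) {u : GL D.Idx F} (hu : u ∈ D.group F)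
    (hsq : u * u = 1) : ∃ m ∈ D.monomialSubgroup F, GConj D u m := by
  classical
  obtain ⟨u₁, hu₁, k, hk, L, v, hv, rfl⟩ := exists_bruhat hc hcomm hu
  set n := nProd D F L with hn
  -- the Weyl element is an involution
  have hvU := uInv_le_pos hc L hv
  obtain ⟨k', hk', hninv⟩ := nProd_inv hc (F := F) L
  set m := k * n with hm
  set y := v * u₁ with hy
  have hyU : y ∈ uGen D F (fun r => D.nroots / 2 ≤ r) := mul_mem hvU hu₁
  have hmy : (m * y) * (m * y) = 1 := by
    calc (m * y) * (m * y) = u₁⁻¹ * ((u₁ * m * v) * (u₁ * m * v)) * u₁ := by rw [hy]; group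
      _ = 1 := by rw [hsq]; group
  obtain ⟨a, ha, b, hb, hab⟩ := uGen_split hc hcomm (closedPos_pos hc) (Q := KeepRoot D T L) (R := InvRoot D T L)
    (fun r hr hp => by
      rcases Nat.lt_or_ge (sigs D T L r) (D.nroots / 2) with g | g
      · exact Or.inr ⟨hp, g⟩
      · exact Or.inl ⟨hp, g⟩) hyU
  have hN : m ∈ D.monomialSubgroup F := mul_mem (diagonal_le_monomial hc hk) (nProd_mem_monomial hc L)
  have hHm : m * m ∈ D.monomialSubgroup F := mul_mem hN hN
  -- the part of `y` moved out of the positive group is trivial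
  have hna : n * a * n⁻¹ ∈ uGen D F (fun r => D.nroots / 2 ≤ r) := nProd_conj_keep hc L ha
  have e1 : n * y * n⁻¹ = k⁻¹ * y⁻¹ * (n * m)⁻¹ := by
    rw [eq_mul_inv_iff_mul_eq, hm]
    calc n * y * n⁻¹ * (n * (k * n)) = k⁻¹ * ((k * n * y) * (k * n * y)) * y⁻¹ := by
          group
      _ = k⁻¹ * y⁻¹ := by rw [show k * n * y = m * y from rfl, hmy]; group
  have hsigL : ∀ r, r < D.nroots → sigs D T L (sigs D T L r) = r := by
    have he : u₁ * (k * n) * v = v⁻¹ * (n⁻¹ * k⁻¹) * u₁⁻¹ := by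
      calc u₁ * (k * n) * v = u₁ * (k * n) * v * ((u₁ * (k * n) * v) * (v⁻¹ * (n⁻¹ * k⁻¹) * u₁⁻¹)) := by group
        _ = _ := by rw [← mul_assoc, hsq, one_mul]
    have h2 : n⁻¹ * k⁻¹ = (k' * (nProd D F L.reverse * k⁻¹ * (nProd D F L.reverse)⁻¹)) * nProd D F L.reverse := by
      rw [hninv]; group
    have hkk : k' * (nProd D F L.reverse * k⁻¹ * (nProd D F L.reverse)⁻¹) ∈ D.diagonalSubgroup F :=
      mul_mem hk' (nProd_conj_diagonal hc _ (inv_mem hk))
    set k₂ := k' * (nProd D F L.reverse * k⁻¹ * (nProd D F L.reverse)⁻¹)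
    obtain ⟨c, hcdef⟩ := (mem_diagonal hc).1 hk
    obtain ⟨d, hddef⟩ := (mem_diagonal hc).1 hkk
    have g1 : (v * u₁) * (k * n) = k₂ * nProd D F L.reverse * (u₁⁻¹ * v⁻¹) := by
      rw [← h2]
      calc v * u₁ * (k * n) = v * (u₁ * (k * n) * v) * v⁻¹ := by group
        _ = _ := by rw [he]; group
    have g2 : (v * u₁)⁻¹ * (k₂ * nProd D F L.reverse) = k * n * (v * u₁) := by
      rw [← h2]
      calc (v * u₁)⁻¹ * (n⁻¹ * k⁻¹) = u₁⁻¹ * (v⁻¹ * (n⁻¹ * k⁻¹) * u₁⁻¹) * u₁ := by group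
        _ = _ := by rw [← he]; group
    rw [← hcdef, ← hddef] at g1 g2
    have hinv : u₁⁻¹ * v⁻¹ ∈ uGen D F (fun r => D.nroots / 2 ≤ r) := mul_mem (inv_mem hu₁) (inv_mem hvU)
    intro r hr
    have hLr : sigs D T L r = sigs D T L.reverse r := by
      have a1 := key_le_of_eq hc hyU hinv g1 hr
      have a2 := key_le_of_eq hc (inv_mem hyU) hyU g2 hr
      rcases lt_trichotomy (sigs D T L r) (sigs D T L.reverse r) with g | g | g
      · have := (key_lt_iff hc (sigs_lt hc L hr) (sigs_lt hc L.reverse hr)).2 g; omega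
      · exact g
      · have := (key_lt_iff hc (sigs_lt hc L.reverse hr) (sigs_lt hc L hr)).2 g; omega
    rw [hLr]
    have := sigs_reverse hc L.reverse hr
    rwa [List.reverse_reverse] at this
  have hnn : n * n ∈ D.diagonalSubgroup F := by
    rw [hn, ← nProd_append]
    exact monomial_fix hc fun r hr => by rw [sigs_append]; exact hsigL r hr
  have hmnD : n * m ∈ D.diagonalSubgroup F := by
    rw [show n * m = n * k * n⁻¹ * (n * n) by rw [hm]; group]; exact mul_mem (nProd_conj_diagonal hc L hk) hnn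
  have hB : n * b * n⁻¹ ∈ D.borelSubgroup F := by
    rw [show n * b * n⁻¹ = (n * a * n⁻¹)⁻¹ * (n * y * n⁻¹) by rw [hab]; group, e1]
    exact mul_mem (inv_mem (pos_le_borel hc hna)) (mul_mem (mul_mem (inv_mem (diagonal_le_borel hc hk))
      (inv_mem (pos_le_borel hc hyU))) (inv_mem (diagonal_le_borel hc hmnD)))
  have hb1 : b = 1 := by
    have := borel_inf_neg hc hB (nProd_conj_uInv hc L hb)
    rwa [conj_eq_one_iff] at this
  subst hb1
  rw [mul_one] at hab
  rw [← hab] at hna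
  -- the square of `m` is trivial and `y` is inverted
  have hmmD : m * m ∈ D.diagonalSubgroup F := by
    rw [show m * m = k * (n * k * n⁻¹) * (n * n) by rw [hm]; group]
    exact mul_mem (mul_mem hk (nProd_conj_diagonal hc L hk)) hnn
  have hmy' : m * y * m⁻¹ = y⁻¹ * (m * m)⁻¹ := by
    calc m * y * m⁻¹ = (m * y) * (m * y) * y⁻¹ * (m * m)⁻¹ := by group
      _ = _ := by rw [hmy, one_mul]
  have hmU : m * y * m⁻¹ ∈ uGen D F (fun r => D.nroots / 2 ≤ r) := by
    rw [show m * y * m⁻¹ = k * (n * y * n⁻¹) * k⁻¹ by rw [hm]; group]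
    exact diag_conj_mem hc _ hk hna
  have hmm1 : m * m = 1 := by
    have h1 : (m * m)⁻¹ ∈ uGen D F (fun r => D.nroots / 2 ≤ r) := by
      rw [show (m * m)⁻¹ = y * (m * y * m⁻¹) by rw [hmy']; group]
      exact mul_mem hyU hmU
    exact inv_eq_one.1 (pos_inf_diag hc h1 (inv_mem hmmD))
  rw [hmm1, inv_one, mul_one] at hmy'
  have hodd : Odd (orderOf y) := by
    have h1 := orderOf_dvd_natCard (⟨y, hyU⟩ : ↥(uGen D F (fun r => D.nroots / 2 ≤ r)))
    rw [card_uGen hc hcomm (closedPos_pos hc), ← Subgroup.orderOf_coe] at h1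
    exact hF.pow.of_dvd_nat h1
  obtain ⟨j, hj⟩ := conj_of_inverted hodd hmy'
  refine ⟨m, hN, y ^ j * u₁⁻¹, mul_mem (pow_mem (pos_le_group hc hyU) j) (inv_mem (pos_le_group hc hu₁)), ?_⟩
  calc y ^ j * u₁⁻¹ * (u₁ * m * v) * (y ^ j * u₁⁻¹)⁻¹ = y ^ j * (m * y) * (y ^ j)⁻¹ := by rw [hy]; group
    _ = m := hj

end

end CfsgLib.ChevInvol
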