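import Cfsg.Agent.Lib.ChevInvol.NegRoots
import Cfsg.Agent.Lib.ChevInvol.SL2
import Cfsg.Agent.Lib.ChevInvol.ToMonomial

/-!
Over a finite field of odd order an involution of the monomial subgroup is conjugate into the torus, provided
the orthogonal sets of roots satisfy a parity condition.
-/

set_option autoImplicit false
set_option linter.unusedSectionVars false

namespace CfsgLib.ChevInvol

open Cfsg.Lie CfsgLib.Chev CfsgLib.ChevSL2 CfsgLib.G2Invol
open Matrix

variable {D : ChevalleyDatum} {T : Tabs} {F : Type*} [Field F]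

/-- the positive one of a root and its negative -/
def posRoot (D : ChevalleyDatum) (r : ℕ) : ℕ := if D.nroots / 2 ≤ r then r else D.neg r

/-- parity property of the sets of roots negated by an involution of the Weyl group -/
def OrthProp (D : ChevalleyDatum) (T : Tabs) : Prop :=
  ∀ S : List ℕ, S.Nodup → S ≠ [] → (∀ a ∈ S, D.nroots / 2 ≤ a ∧ a < D.nroots) →
    (∀ a ∈ S, ∀ b ∈ S, Even (pv D T a (rv D T b))) →
    (∀ γ, γ < D.nroots → (∃ c : ℕ → ℤ, (2 : ℤ) • rv D T γ = (S.map fun a => c a • rv D T a).sum) →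
      posRoot D γ ∈ S) →
    (∀ a ∈ S, ∀ b ∈ S, a ≠ b → pv D T a (rv D T b) = 0) ∧
      ∃ v : Fin D.rank → ℤ, ¬ Even (S.map fun a => pv D T a v).sum

theorem mul_isSquare' [Fintype F] {x y : Fˣ} (hx : ¬ IsSquare x) (hy : ¬ IsSquare y) : IsSquare (x * y) := by
  obtain ⟨r, hr⟩ := SteinbergTwo.isSquare_mul_of_not (K := F) (s := (x : F)) (t := (y : F))
    (fun ⟨r, hr⟩ => hx ⟨Units.mk0 r (fun h => x.ne_zero (by rw [hr, h, mul_zero])), Units.ext hr⟩)
    (fun ⟨r, hr⟩ => hy ⟨Units.mk0 r (fun h => y.ne_zero (by rw [hr, h, mul_zero])), Units.ext hr⟩)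
  exact ⟨Units.mk0 r (fun h => (x * y).ne_zero (by rw [Units.val_mul, hr, h, mul_zero])),
    Units.ext ((Units.val_mul x y).trans hr)⟩

theorem isSquare_mul_left {x y : Fˣ} (hx : IsSquare x) : IsSquare (x * y) ↔ IsSquare y :=
  ⟨fun h => by simpa using hx.inv.mul h, fun h => hx.mul h⟩

theorem zpow_isSquare (x : Fˣ) {n : ℤ} (hn : Even n) : IsSquare (x ^ n) := by
  obtain ⟨k, rfl⟩ := hn
  exact ⟨x ^ k, _root_.zpow_add x k k⟩

theorem zpow_not_isSquare {x : Fˣ} (hx : ¬ IsSquare x) {n : ℤ} (hn : Odd n) : ¬ IsSquare (x ^ n) := by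
  obtain ⟨k, rfl⟩ := hn
  rw [_root_.zpow_add, zpow_one, isSquare_mul_left (zpow_isSquare x ⟨k, by ring⟩)]
  exact hx

section
variable (hc : Checked D T)
include hc

theorem posRoot_pos {r : ℕ} (hr : r < D.nroots) : D.nroots / 2 ≤ posRoot D r ∧ posRoot D r < D.nroots := by
  unfold posRoot
  split
  · exact ⟨by assumption, hr⟩
  · refine ⟨?_, neg_lt hc hr⟩
    rw [neg_eq hc hr]; have := nroots_eq_two_mul hc; omega

theorem posRoot_of_pos {r : ℕ} (hr : D.nroots / 2 ≤ r) : posRoot D r = r := if_pos hr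

theorem posRoot_neg {r : ℕ} (hr : r < D.nroots) : posRoot D (D.neg r) = posRoot D r := by
  have := nroots_eq_two_mul hc
  unfold posRoot
  rw [neg_neg_root hc hr, neg_eq hc hr]
  split_ifs <;> first | rfl | omega

theorem posRoot_cases {r : ℕ} (hr : r < D.nroots) :
    rv D T (posRoot D r) = rv D T r ∨ rv D T (posRoot D r) = -rv D T r := by
  unfold posRoot
  split
  · exact Or.inl rfl
  · exact Or.inr (rv_neg hc hr)

theorem elX_inj' {r : ℕ} (hr : r < D.nroots) {t u : F} (h : elX D F r t = elX D F r u) : t = u := by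
  have h1 : elX D F r (t + -u) = 1 := by
    rw [← elX_add hc F hr, h, elX_add hc F hr, add_neg_cancel, elX_zero hc F hr]
  linear_combination (elX_eq_one_iff hc hr _).1 h1

/-- two roots without combinations have commuting root elements -/
theorem elX_commute_of_noComb (hcomm : CommOne D T) {a b : ℕ} (ha : a < D.nroots) (hb : b < D.nroots)
    (h : ∀ v, v < D.nroots → ∀ i j : ℤ, i ≠ 0 → j ≠ 0 → rv D T v ≠ i • rv D T a + j • rv D T b)
    (hab : b ≠ a) (hab' : b ≠ D.neg a) (t u : F) : Commute (elX D F a t) (elX D F b u) := by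
  have hnil : D.commWord F a b t u = [] := by
    rw [List.eq_nil_iff_forall_not_mem]
    intro p hp
    obtain ⟨hv, i, j, hi, hj, e⟩ := commWord_mem hc ha hb t u p hp
    exact h _ hv (i : ℤ) (j : ℤ) (by omega) (by omega) e
  have := elX_comm hc hcomm ha hb hab hab' t u
  rw [hnil, show wordGL D F ([] : List (ℕ × F)) = 1 by simp [wordGL], mul_one] at this
  exact this.symm

variable (hcomm : CommOne D T)
include hcomm

/-- the parity of the factors of the roots negated by a square root of a torus element -/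
theorem chain [Fintype F] (h2 : (2 : F) ≠ 0) :
    ∀ S : List ℕ, S.Nodup → (∀ a ∈ S, D.nroots / 2 ≤ a ∧ a < D.nroots) →
      (∀ a ∈ S, ∀ b ∈ S, a ≠ b → pv D T a (rv D T b) = 0 ∧
        ∀ v, v < D.nroots → ∀ i j : ℤ, i ≠ 0 → j ≠ 0 → rv D T v ≠ i • rv D T a + j • rv D T b) →
      ∀ (m : GL D.Idx F) (L : List (Fin D.rank)) (ψ : Fin D.rank → Fˣ),
        m ∈ D.monomialSubgroup F → Acts D T m L → m * m = torus D T F ψ →
        (∀ a ∈ S, chi ψ (rv D T a) = 1 ∧ ∃ c : Fˣ, Swap D m a c ∧ ¬ IsSquare c) →
        (∀ s, s < D.nroots → sigs D T L s = D.neg s → posRoot D s ∈ S) →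
        ∀ v : Fin D.rank → ℤ, IsSquare (chi ψ v) ↔ Even (S.map fun a => pv D T a v).sum := by
  intro S
  induction S with
  | nil =>
    intro _ _ _ m L ψ hm hL hsq _ hneg v
    have hemp : negSet D T L = ∅ := by
      rw [Finset.eq_empty_iff_forall_notMem]
      intro s hs
      have := hneg s.val s.2 (mem_negSet.1 hs)
      simp at this
    obtain ⟨h, hh, M, rfl⟩ := monomial_cases hc hm
    have hM : ∀ r, r < D.nroots → sigs D T M r = r := fun r hr => by
      refine Eq.trans ?_ (sigs_id_of_negSet_empty hc (fun s hs => hL.involutive hc hsq hs) hemp hr)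
      refine Acts.unique hc (g := h * nProd D F M) (fun r hr => ?_) hL hr
      obtain ⟨c, -, e⟩ := nProd_conj_elX hc (F := F) M hr
      obtain ⟨d, hd⟩ := diagonal_conj_elX hc hh (sigs_lt hc M hr)
      exact ⟨d * c, fun t => by
        rw [show h * nProd D F M * elX D F r t * (h * nProd D F M)⁻¹ =
          h * (nProd D F M * elX D F r t * (nProd D F M)⁻¹) * h⁻¹ by group, e, hd, Units.val_mul, mul_assoc]⟩
    obtain ⟨η, hη⟩ := (mem_diagonal hc).1 (mul_mem hh (monomial_fix hc (F := F) hM))
    rw [← hη, ← map_mul] at hsq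
    have he := torus_injective hc hsq
    simp only [List.map_nil, List.sum_nil, Even.zero, iff_true]
    exact ⟨chi (hPar D F η) v, by rw [← he, chi_mul]⟩
  | cons r S ih =>
    intro hnd hpos horth m L ψ hm hL hsq hS hneg v
    rw [List.nodup_cons] at hnd
    obtain ⟨hrp, hr⟩ := hpos r List.mem_cons_self
    obtain ⟨hψr, c, hsw, hcn⟩ := hS r List.mem_cons_self
    obtain ⟨φ, -, hφ⟩ := exists_hom hc (F := F) hr
    have htau := hom_tau hc hr φ hφ hsw.1 hsw.2
    set w := elN D F r (((-1 : Fˣ)) : F) with hw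
    have hwφ : w = φ (ww (-1 : F) (neg_ne_zero.2 one_ne_zero)) := by
      rw [hom_wWord hc hr φ hφ, hw]; simp
    have hwN : w ∈ D.monomialSubgroup F := by
      rw [hw, elN_eq_mul hc hr]
      exact mul_mem (diagonal_le_monomial hc (torus_corChar_mem hc _)) (elN_mem_monomial hc hr)
    have hsq' : (w * m) * (w * m) = torus D T F (corChar D T r c * ψ) := by
      rw [map_mul, ← hsq, ← hom_dd hc hr φ hφ,
        show (w * m) * (w * m) = w * (m * w * m⁻¹) * (m * m) by group, hwφ, htau, ← map_mul]
      congr 2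
      ext i j
      fin_cases i <;> fin_cases j <;>
        simp [tau_ww, coe_ww, coe_dd, SpecialLinearGroup.coe_mul, mul_apply, Fin.sum_univ_two]
    obtain ⟨M, hM, hMrv⟩ := exists_acts_elN hc (F := F) hr (-1)
    have hL' : Acts D T (w * m) (M ++ L) := hM.mul hc hL
    have hS' : ∀ a ∈ S, chi (corChar D T r c * ψ) (rv D T a) = 1 ∧ ∃ c' : Fˣ, Swap D (w * m) a c' ∧ ¬ IsSquare c' := by
      intro a ha
      obtain ⟨hψa, c', hsw', hc'⟩ := hS a (List.mem_cons_of_mem _ ha)
      obtain ⟨hpa, hna⟩ := hpos a (List.mem_cons_of_mem _ ha)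
      have hra : r ≠ a := fun e => hnd.1 (e ▸ ha)
      obtain ⟨h0, hcomb⟩ := horth r List.mem_cons_self a (List.mem_cons_of_mem _ ha) hra
      refine ⟨by rw [chi_mul, chi_corChar_vec, h0, zpow_zero, one_mul, hψa], c', ?_, hc'⟩
      have hnr := neg_lt hc hr
      have hne : D.neg r ≠ r := neg_ne hc hr
      have hcm : ∀ x, x < D.nroots → (x = a ∨ x = D.neg a) → ∀ t, Commute w (elX D F x t) := by
        intro x hx hxa t
        have hcase : ∀ y, y < D.nroots → (y = r ∨ y = D.neg r) → ∀ s : F, Commute (elX D F y s) (elX D F x t) := by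
          intro y hy hyr s
          have h2' := nroots_eq_two_mul hc
          refine elX_commute_of_noComb hc hcomm hy hx (fun v hv i j hi hj e => ?_) ?_ ?_ s t
          · rcases hyr with rfl | rfl <;> rcases hxa with rfl | rfl
            · exact hcomb v hv i j hi hj e
            · exact hcomb v hv i (-j) hi (neg_ne_zero.2 hj) (by rw [e, rv_neg hc hna]; module)
            · exact hcomb v hv (-i) j (neg_ne_zero.2 hi) hj (by rw [e, rv_neg hc hr]; module)
            · exact hcomb v hv (-i) (-j) (neg_ne_zero.2 hi) (neg_ne_zero.2 hj)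
                (by rw [e, rv_neg hc hna, rv_neg hc hr]; module)
          · rw [neg_eq hc hr] at hyr; rw [neg_eq hc hna] at hxa; omega
          · rw [neg_eq hc hy]; rw [neg_eq hc hr] at hyr; rw [neg_eq hc hna] at hxa; omega
        rw [hw, elN]
        exact ((hcase r hr (Or.inl rfl) _).mul_left (hcase _ hnr (Or.inr rfl) _)).mul_left (hcase r hr (Or.inl rfl) _)
      have hconj : ∀ x, x < D.nroots → (x = a ∨ x = D.neg a) → ∀ t, w * elX D F x t * w⁻¹ = elX D F x t := by
        intro x hx hxa t
        rw [(hcm x hx hxa t).eq, mul_inv_cancel_right]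
      refine ⟨fun t => ?_, fun t => ?_⟩
      · rw [show w * m * elX D F a t * (w * m)⁻¹ = w * (m * elX D F a t * m⁻¹) * w⁻¹ by group, hsw'.1,
          hconj _ (neg_lt hc hna) (Or.inr rfl)]
      · rw [show w * m * elX D F (D.neg a) t * (w * m)⁻¹ = w * (m * elX D F (D.neg a) t * m⁻¹) * w⁻¹ by group,
          hsw'.2, hconj _ hna (Or.inl rfl)]
    have hnegr : sigs D T L r = D.neg r := by
      obtain ⟨c₀, e⟩ := hL r hr
      exact elX_root_unique hc (sigs_lt hc L hr) (neg_lt hc hr) (s := (c₀ : F) * 1) (u := (c : F) * 1) (by simp)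
        ((e 1).symm.trans (hsw.1 1))
    have hneg' : ∀ s, s < D.nroots → sigs D T (M ++ L) s = D.neg s → posRoot D s ∈ S := by
      intro s hs h
      obtain ⟨h1, h3, h4⟩ := negSet_reflect hc hr hMrv (fun x hx => hL.involutive hc hsq hx) hnegr hs h
      rcases List.mem_cons.1 (hneg s hs h1) with e | e
      · exfalso
        unfold posRoot at e
        split at e
        · exact h3 e
        · exact h4 (by rw [← e, neg_neg_root hc hs])
      · exact e
    have key := ih hnd.2 (fun a ha => hpos a (List.mem_cons_of_mem _ ha))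
      (fun a ha b hb => horth a (List.mem_cons_of_mem _ ha) b (List.mem_cons_of_mem _ hb))
      (w * m) (M ++ L) (corChar D T r c * ψ) (mul_mem hwN hm) hL' hsq' hS' hneg' v
    rw [chi_mul, chi_corChar_vec] at key
    rw [List.map_cons, List.sum_cons]
    rcases Int.even_or_odd (pv D T r v) with hP | hP
    · rw [Int.even_add, iff_true_left hP, ← key, isSquare_mul_left (zpow_isSquare c hP)]
    · have hns := zpow_not_isSquare hcn hP
      rw [Int.even_add, iff_false_left (Int.not_even_iff_odd.2 hP), ← key]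
      constructor
      · intro h h'
        exact hns ((isSquare_mul_left h).1 (by rwa [mul_comm] at h'))
      · intro h
        by_contra h'
        exact h (mul_isSquare' hns h')

theorem conj_step_square (h2 : (2 : F) ≠ 0) {m : GL D.Idx F} (hm : m ∈ D.monomialSubgroup F) (hsq : m * m = 1)
    {L : List (Fin D.rank)} (hL : Acts D T m L) {r : ℕ} (hr : r < D.nroots) (hneg : sigs D T L r = D.neg r)
    {c : Fˣ} (hsw : Swap D m r c) (hcs : IsSquare c) :
    ∃ m' ∈ D.monomialSubgroup F, GConj D m m' ∧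
      ∃ L', Acts D T m' L' ∧ (negSet D T L').card < (negSet D T L).card := by
  obtain ⟨e, rfl⟩ := hcs
  obtain ⟨φ, -, hφ⟩ := exists_hom hc (F := F) hr
  have htau := hom_tau hc hr φ hφ hsw.1 hsw.2
  obtain ⟨g, hg⟩ := exists_square_step h2 e
  have key : φ g * m * (φ g)⁻¹ = elN D F r ((e : F)⁻¹) * m := by
    rw [← hom_wWord hc hr φ hφ _ (inv_ne_zero e.ne_zero)]
    conv_lhs => enter [1, 1]; rw [← hg, map_mul, ← htau]
    group
  obtain ⟨M, hM, hMrv⟩ := exists_acts_elN hc (F := F) hr e⁻¹
  rw [Units.val_inv_eq_inv_val] at hM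
  refine ⟨_, mul_mem ?_ hm, ⟨φ g, hom_mem_group hc hr φ hφ g, key⟩, M ++ L, hM.mul hc hL,
    negSet_reflect_card hc hr hMrv (fun x hx => hL.involutive hc (ψ := 1) (by rw [hsq, map_one]) hx) hneg⟩
  rw [← Units.val_inv_eq_inv_val, elN_eq_mul hc hr]
  exact mul_mem (diagonal_le_monomial hc (torus_corChar_mem hc _)) (elN_mem_monomial hc hr)

/-- an involution of the monomial subgroup is conjugate into the torus -/
theorem exists_conj_diagonal [Fintype F] (hF : Odd (Fintype.card F)) (h2 : (2 : F) ≠ 0) (hO : OrthProp D T)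
    {m : GL D.Idx F} (hm : m ∈ D.monomialSubgroup F) (hsq : m * m = 1) :
    ∃ h ∈ D.diagonalSubgroup F, GConj D m h := by
  classical
  obtain ⟨L, hL⟩ := exists_acts hc hm
  suffices key : ∀ d, ∀ (m : GL D.Idx F) (L : List (Fin D.rank)), (negSet D T L).card = d →
      m ∈ D.monomialSubgroup F → m * m = 1 → Acts D T m L → ∃ h ∈ D.diagonalSubgroup F, GConj D m h from
    key _ m L rfl hm hsq hL
  clear! m L
  intro d
  induction d using Nat.strong_induction_on with
  | _ d ih =>
    intro m L hd hm hsq hL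
    have hsq1 : m * m = torus D T F 1 := by rw [hsq, map_one]
    have hinv : ∀ s, s < D.nroots → sigs D T L (sigs D T L s) = s := fun s hs => hL.involutive hc hsq1 hs
    by_cases hemp : negSet D T L = ∅
    · refine ⟨m, ?_, GConj.refl m⟩
      obtain ⟨h, hh, M, rfl⟩ := monomial_cases hc hm
      refine mul_mem hh (monomial_fix hc fun r hr => ?_)
      have hA : Acts D T (h * nProd D F M) M := fun r hr => by
        obtain ⟨c, -, e⟩ := nProd_conj_elX hc (F := F) M hr
        obtain ⟨d, hd⟩ := diagonal_conj_elX hc hh (sigs_lt hc M hr)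
        exact ⟨d * c, fun t => by
          rw [show h * nProd D F M * elX D F r t * (h * nProd D F M)⁻¹ =
            h * (nProd D F M * elX D F r t * (nProd D F M)⁻¹) * h⁻¹ by group, e, hd, Units.val_mul, mul_assoc]⟩
      rw [hA.unique hc hL hr]
      exact sigs_id_of_negSet_empty hc hinv hemp hr
    -- it is enough to find a negated root with a square factor
    have fin : ∀ (m' : GL D.Idx F), m' ∈ D.monomialSubgroup F → GConj D m m' → Acts D T m' L →
        ∀ r c, r < D.nroots → sigs D T L r = D.neg r → Swap D m' r c → IsSquare c →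
          ∃ h ∈ D.diagonalSubgroup F, GConj D m h := by
      intro m' hm' hconj hL' r c hr hneg hsw hcs
      obtain ⟨m'', hm'', hconj', L'', hL'', hlt⟩ :=
        conj_step_square hc hcomm h2 hm' (hconj.sq hsq) hL' hr hneg hsw hcs
      obtain ⟨h, hh, hh'⟩ := ih _ (hd ▸ hlt) m'' L'' rfl hm'' ((hconj.trans hconj').sq hsq) hL''
      exact ⟨h, hh, (hconj.trans hconj').trans hh'⟩
    have hswap : ∀ r, r < D.nroots → sigs D T L r = D.neg r → ∃ c, Swap D m r c := fun r hr h =>
      hL.exists_swap hc hsq1 hr (chi_one _) h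
    by_contra hno
    have hnsq : ∀ r c, r < D.nroots → sigs D T L r = D.neg r → Swap D m r c → ¬ IsSquare c := fun r c hr h1 h2' h3 =>
      hno (fin m hm (GConj.refl m) hL r c hr h1 h2' h3)
    have heven : ∀ r s, r < D.nroots → s < D.nroots → sigs D T L r = D.neg r → sigs D T L s = D.neg s →
        Even (pv D T r (rv D T s)) := by
      intro r s hr hs hrn hsn
      rw [← Int.not_odd_iff_even]
      intro hP
      obtain ⟨c, hswr⟩ := hswap r hr hrn
      obtain ⟨cs, hsws⟩ := hswap s hs hsn
      have hcn := hnsq r c hr hrn hswr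
      have hcsn := hnsq s cs hs hsn hsws
      obtain ⟨φ, -, hφ⟩ := exists_hom hc (F := F) hr
      have htau := hom_tau hc hr φ hφ hswr.1 hswr.2
      by_cases hm1 : IsSquare (-1 : Fˣ)
      · -- the image of one root under the reflection in the other
        obtain ⟨σ, hfl, hσrv⟩ := exists_flip_elN hc (F := F) hr
        obtain ⟨hγ, η, hη, hflip⟩ := hfl s hs
        set N := elN D F r (1 : F) with hN
        set t₀ : Fˣ := -c⁻¹ with ht₀
        have hmN : m * N * m⁻¹ = torus D T F (corChar D T r t₀) * N := by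
          rw [hN, ← hom_wWord hc hr φ hφ 1 one_ne_zero, htau, tau_ww, hom_wWord hc hr φ hφ,
            hom_wWord hc hr φ hφ, show -((c : F) * 1)⁻¹ = (t₀ : F) by simp [ht₀], elN_eq_mul hc hr]
        have hη2 : η * η = 1 := by rcases hη with rfl | rfl <;> simp
        have hrvγ : rv D T (D.neg (σ s)) = -rr D T r (rv D T s) := by rw [rv_neg hc hγ, hσrv s hs]
        have hconj : ∀ u : F, m * elX D F (σ s) u * m⁻¹ =
            elX D F (D.neg (σ s)) (((t₀ ^ pv D T r (rv D T s) * cs : Fˣ) : F) * u) := by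
          intro u
          have hx : elX D F (σ s) u = N * elX D F s (η * u) * N⁻¹ := by
            rw [(hflip _).1, ← mul_assoc, hη2, one_mul]
          rw [hx, show m * (N * elX D F s (η * u) * N⁻¹) * m⁻¹ =
            (m * N * m⁻¹) * (m * elX D F s (η * u) * m⁻¹) * (m * N * m⁻¹)⁻¹ by group, hmN, hsws.1,
            show ∀ x : GL D.Idx F, torus D T F (corChar D T r t₀) * N * x * (torus D T F (corChar D T r t₀) * N)⁻¹ =
              torus D T F (corChar D T r t₀) * (N * x * N⁻¹) * (torus D T F (corChar D T r t₀))⁻¹ from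
              fun x => by group, (hflip _).2, torus_conj_elX hc _ (neg_lt hc hγ), hrvγ, chi_corChar_vec, pv_neg_vec]
          congr 1
          have e : -pv D T r (rr D T r (rv D T s)) = pv D T r (rv D T s) := by
            rw [rr, pv_sub, pv_smul, pv_self hc hr]; ring
          rw [e, Units.val_mul, show η * ((cs : F) * (η * u)) = (η * η) * ((cs : F) * u) by ring, hη2, one_mul,
            mul_assoc]
        have hγneg : sigs D T L (σ s) = D.neg (σ s) := by
          obtain ⟨c₀, e⟩ := hL _ hγ
          exact elX_root_unique hc (sigs_lt hc L hγ) (neg_lt hc hγ) (s := (c₀ : F) * 1) (by simp)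
            ((e 1).symm.trans (hconj 1))
        obtain ⟨cγ, hswγ⟩ := hswap _ hγ hγneg
        refine hnsq _ cγ hγ hγneg hswγ ?_
        have e : cγ = t₀ ^ pv D T r (rv D T s) * cs := by
          apply Units.ext
          have h := (hswγ.1 1).symm.trans (hconj 1)
          rw [mul_one, mul_one] at h
          exact elX_inj' hc (neg_lt hc hγ) h
        rw [e]
        refine mul_isSquare' (zpow_not_isSquare ?_ hP) hcsn
        rw [ht₀, ← neg_one_mul, isSquare_mul_left hm1]
        exact fun h => hcn (by simpa using h.inv)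
      · obtain ⟨g, hg⟩ := exists_flip_step (Nat.odd_iff.1 hF) c
        have key : φ g * m * (φ g)⁻¹ = torus D T F (corChar D T r (-1)) * m := by
          rw [← hom_dd hc hr φ hφ]
          conv_lhs => enter [1, 1]; rw [← hg, map_mul, ← htau]
          group
        refine hno (fin _ (mul_mem (diagonal_le_monomial hc (torus_corChar_mem hc _)) hm)
          ⟨φ g, hom_mem_group hc hr φ hφ g, key⟩ (by simpa using (acts_torus hc _).mul hc hL) s (-cs) hs hsn ?_
          (by rw [← neg_one_mul]; exact mul_isSquare' hm1 hcsn))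
        have e1 : ((-1 : Fˣ) ^ pv D T r (-rv D T s)) = -1 := by
          rw [pv_neg_vec]; exact hP.neg.neg_one_zpow
        have e2 : ((-1 : Fˣ) ^ pv D T r (rv D T s)) = -1 := hP.neg_one_zpow
        refine ⟨fun t => ?_, fun t => ?_⟩
        · rw [show torus D T F (corChar D T r (-1)) * m * elX D F s t * (torus D T F (corChar D T r (-1)) * m)⁻¹ =
            torus D T F (corChar D T r (-1)) * (m * elX D F s t * m⁻¹) * (torus D T F (corChar D T r (-1)))⁻¹ by group,
            hsws.1, torus_conj_elX hc _ (neg_lt hc hs), rv_neg hc hs, chi_corChar_vec, e1]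
          simp [mul_assoc]
        · rw [show torus D T F (corChar D T r (-1)) * m * elX D F (D.neg s) t *
            (torus D T F (corChar D T r (-1)) * m)⁻¹ =
            torus D T F (corChar D T r (-1)) * (m * elX D F (D.neg s) t * m⁻¹) *
              (torus D T F (corChar D T r (-1)))⁻¹ by group,
            hsws.2, torus_conj_elX hc _ hs, chi_corChar_vec, e2]
          simp [mul_assoc, inv_neg]
    -- the negated positive roots
    set S := ((negSet D T L).filter fun r => D.nroots / 2 ≤ r.val).toList.map Fin.val with hSdef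
    have hmem : ∀ a, a ∈ S ↔ a < D.nroots ∧ D.nroots / 2 ≤ a ∧ sigs D T L a = D.neg a := by
      intro a
      simp only [hSdef, List.mem_map, Finset.mem_toList, Finset.mem_filter, mem_negSet]
      constructor
      · rintro ⟨x, ⟨h1, h2'⟩, rfl⟩; exact ⟨x.2, h2', h1⟩
      · rintro ⟨h1, h2', h3⟩; exact ⟨⟨a, h1⟩, ⟨h3, h2'⟩, rfl⟩
    have hclosed : ∀ s, s < D.nroots → sigs D T L s = D.neg s → posRoot D s ∈ S := by
      intro s hs h
      rw [hmem]
      obtain ⟨h1, h2'⟩ := posRoot_pos hc hs
      refine ⟨h2', h1, ?_⟩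
      unfold posRoot
      split
      · exact h
      · rw [sigs_neg hc L hs, h]
    have hSnd : S.Nodup := (Finset.nodup_toList _).map Fin.val_injective
    have hSne : S ≠ [] := by
      obtain ⟨x, hx⟩ := Finset.nonempty_iff_ne_empty.2 hemp
      exact List.ne_nil_of_mem (hclosed _ x.2 (mem_negSet.1 hx))
    have hcl : ∀ γ, γ < D.nroots → (∃ c : ℕ → ℤ, (2 : ℤ) • rv D T γ = (S.map fun a => c a • rv D T a).sum) →
        posRoot D γ ∈ S := by
      rintro γ hγ ⟨c, hcγ⟩
      have key : ∀ S' : List ℕ, (∀ a ∈ S', a ∈ S) → refls D L (S'.map fun a => c a • rv D T a).sum =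
          -(S'.map fun a => c a • rv D T a).sum := by
        intro S' hS'
        induction S' with
        | nil => simp [refls_zero]
        | cons a S' ih' =>
          obtain ⟨h1, -, h3⟩ := (hmem a).1 (hS' a List.mem_cons_self)
          rw [List.map_cons, List.sum_cons, refls_add, refls_smul, ← rv_sigs hc L h1, h3, rv_neg hc h1,
            ih' fun x hx => hS' x (List.mem_cons_of_mem _ hx)]
          module
      have h := key S fun a ha => ha
      rw [← hcγ, refls_smul, ← rv_sigs hc L hγ, ← smul_neg] at h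
      refine hclosed γ hγ (rv_inj hc (sigs_lt hc L hγ) (neg_lt hc hγ) ?_)
      rw [rv_neg hc hγ]
      exact smul_right_injective _ (show (2 : ℤ) ≠ 0 by norm_num) h
    obtain ⟨horth, v, hv⟩ := hO S hSnd hSne (fun a ha => ⟨((hmem a).1 ha).2.1, ((hmem a).1 ha).1⟩)
      (fun a ha b hb => heven a b ((hmem a).1 ha).1 ((hmem b).1 hb).1 ((hmem a).1 ha).2.2 ((hmem b).1 hb).2.2) hcl
    have hS2 : ∀ a ∈ S, ∀ b ∈ S, a ≠ b → pv D T a (rv D T b) = 0 ∧
        ∀ x, x < D.nroots → ∀ i j : ℤ, i ≠ 0 → j ≠ 0 → rv D T x ≠ i • rv D T a + j • rv D T b := by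
      intro a ha b hb hab
      refine ⟨horth a ha b hb hab, fun x hx i j hi hj e => ?_⟩
      obtain ⟨ha1, ha2, ha3⟩ := (hmem a).1 ha
      obtain ⟨hb1, hb2, hb3⟩ := (hmem b).1 hb
      have hxneg : sigs D T L x = D.neg x := rv_inj hc (sigs_lt hc L hx) (neg_lt hc hx) (by
        rw [rv_sigs hc L hx, e, refls_add, refls_smul, refls_smul, ← rv_sigs hc L ha1, ha3, ← rv_sigs hc L hb1,
          hb3, rv_neg hc hx, e, rv_neg hc ha1, rv_neg hc hb1]
        module)
      have hs0 := hclosed x hx hxneg
      set s₀ := posRoot D x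
      obtain ⟨hs1, -, -⟩ := (hmem s₀).1 hs0
      have hpm := posRoot_cases hc hx (D := D)
      have h1 : pv D T s₀ (rv D T x) ≠ 0 := by
        have := pv_self hc hs1
        rcases hpm with h | h <;> rw [h] at this
        · omega
        · rw [pv_neg_vec] at this; omega
      rw [e, pv_add, pv_smul, pv_smul] at h1
      by_cases hsa : s₀ = a
      · have h3 : pv D T b (rv D T x) = 0 := by
          rcases hpm with h | h <;> rw [show posRoot D x = s₀ from rfl, hsa] at h
          · rw [← h]; exact horth b hb a ha (Ne.symm hab)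
          · rw [← neg_eq_zero, ← pv_neg_vec, ← h]; exact horth b hb a ha (Ne.symm hab)
        rw [e, pv_add, pv_smul, pv_smul, horth b hb a ha (Ne.symm hab), pv_self hc hb1] at h3
        omega
      · by_cases hsb : s₀ = b
        · have h3 : pv D T a (rv D T x) = 0 := by
            rcases hpm with h | h <;> rw [show posRoot D x = s₀ from rfl, hsb] at h
            · rw [← h]; exact horth a ha b hb hab
            · rw [← neg_eq_zero, ← pv_neg_vec, ← h]; exact horth a ha b hb hab
          rw [e, pv_add, pv_smul, pv_smul, horth a ha b hb hab, pv_self hc ha1] at h3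
          omega
        · exact h1 (by rw [horth _ hs0 a ha hsa, horth _ hs0 b hb hsb]; ring)
    refine hv ((chain hc hcomm h2 S hSnd (fun a ha => ⟨((hmem a).1 ha).2.1, ((hmem a).1 ha).1⟩) hS2 m L 1 hm hL
      hsq1 (fun a ha => ⟨chi_one _, ?_⟩) hclosed v).1 (by rw [chi_one]; exact IsSquare.one))
    obtain ⟨c, hc'⟩ := hswap a ((hmem a).1 ha).1 ((hmem a).1 ha).2.2
    exact ⟨c, hc', hnsq a c ((hmem a).1 ha).1 ((hmem a).1 ha).2.2 hc'⟩

end

end CfsgLib.ChevInvol
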