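import Cfsg.Agent.Lib.ChevInvol.Count
import Cfsg.Agent.Lib.ChevInvol.ToTorus

/-!
Involutions of a Chevalley group of unimodular type over a field of odd order: they are conjugate to torus
involutions, whose classes and centraliser orders come from finite certificates.
-/

set_option autoImplicit false
set_option linter.unusedSectionVars false

namespace CfsgLib.ChevInvol

open Cfsg.Lie CfsgLib.Chev

variable {D : ChevalleyDatum} {T : Tabs} {F : Type*} [Field F]

theorem two_ne_zero_of_odd [Fintype F] (hF : Odd (Fintype.card F)) : (2 : F) ≠ 0 := fun h => by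
  haveI : CharP F 2 := CharTwo.of_one_ne_zero_of_two_eq_zero one_ne_zero h
  obtain ⟨n, -, hn⟩ := FiniteField.card F 2
  rw [hn] at hF
  exact (Nat.not_odd_iff_even.2 ((Nat.even_pow' n.pos.ne').2 even_two)) hF

section
variable (hc : Checked D T) (hcomm : CommOne D T)
include hc hcomm

/-- every involution is conjugate to a torus involution -/
theorem involution_conj [Fintype F] (hF : Odd (Fintype.card F)) (hO : OrthProp D T) {u : GL D.Idx F}
    (hu : u ∈ D.group F) (hsq : u * u = 1) (hne : u ≠ 1) :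
    ∃ b : Fin D.rank → Bool, (∃ j, b j = true) ∧ GConj D u (tB D T F b) := by
  classical
  have h2 := two_ne_zero_of_odd hF
  obtain ⟨m, hm, hum⟩ := exists_conj_monomial hc hcomm hF hu hsq
  obtain ⟨h, hh, hmh⟩ := exists_conj_diagonal hc hcomm hF h2 hO hm (hum.sq hsq)
  have huh := hum.trans hmh
  obtain ⟨c, hc'⟩ := (mem_diagonal hc).1 hh
  set χ := hPar D F c
  have hχ : χ * χ = 1 := torus_injective hc (by rw [map_mul, map_one, hc']; exact huh.sq hsq)
  set b : Fin D.rank → Bool := fun j => decide (χ j = -1) with hb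
  have e : signChar D F b = χ := by
    funext j
    have hj : χ j * χ j = 1 := congrFun hχ j
    have hcase : χ j = 1 ∨ χ j = -1 := by
      rcases mul_self_eq_one_iff.1 (show (χ j : F) * χ j = 1 by rw [← Units.val_mul, hj, Units.val_one]) with h | h
      · exact Or.inl (Units.ext h)
      · exact Or.inr (Units.ext (by rw [h]; simp))
    rcases hcase with h | h
    · simp [signChar, hb, h, (neg_one_units_ne h2).symm]
    · simp [signChar, hb, h]
  have hub : GConj D u (tB D T F b) := by rw [tB, e, hc']; exact huh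
  refine ⟨b, ?_, hub⟩
  by_contra hno
  push Not at hno
  rw [tB, (signChar_eq_one_iff h2 b).2 (fun j => by simpa using hno j), map_one] at hub
  obtain ⟨g, -, hg⟩ := hub
  exact hne (conj_eq_one_iff.1 hg)

/-- two classes of involutions -/
theorem two_classes [Fintype F] (hF : Odd (Fintype.card F)) (hO : OrthProp D T)
    {M : Fin D.rank → Fin D.rank → ℤ} (hM : ChevField.CartanInv D M)
    (C : List (List ℤ)) (hC : ∀ i k : Fin D.rank, gz (C.getD i.val []) k.val = cm D i k)
    (L₁ L₂ : List (List Bool × ℕ × ℕ)) (hT₁ : TreeOK C D.rank L₁) (hT₂ : TreeOK C D.rank L₂)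
    (l₁ l₂ : List Bool) (he₁ : (L₁.getD 0 ([], 0, 0)).1 = l₁) (he₂ : (L₂.getD 0 ([], 0, 0)).1 = l₂)
    (hl₁ : ∃ j, bitsOf D l₁ j = true) (hl₂ : ∃ j, bitsOf D l₂ j = true)
    (hreach : ∀ b : Fin D.rank → Bool, (∀ j, b j = false) ∨ List.ofFn b ∈ L₁.map Prod.fst ∨
      List.ofFn b ∈ L₂.map Prod.fst)
    {n₁ n₂ : ℕ} (hn : n₁ ≠ n₂)
    (h₁ : Nat.card {g : GL D.Idx F // g ∈ D.group F ∧ tB D T F (bitsOf D l₁) * g = g * tB D T F (bitsOf D l₁)} = n₁)
    (h₂ : Nat.card {g : GL D.Idx F // g ∈ D.group F ∧ tB D T F (bitsOf D l₂) * g = g * tB D T F (bitsOf D l₂)} = n₂) :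
    ∃ s t : ↥(D.group F), orderOf s = 2 ∧ orderOf t = 2 ∧ ¬ IsConj s t ∧
      (∀ u : ↥(D.group F), orderOf u = 2 → IsConj u s ∨ IsConj u t) ∧
      Nat.card (Subgroup.centralizer ({s} : Set ↥(D.group F))) = n₁ ∧
      Nat.card (Subgroup.centralizer ({t} : Set ↥(D.group F))) = n₂ := by
  classical
  have h2 := two_ne_zero_of_odd hF
  have hmem : ∀ b, tB D T F b ∈ D.group F := fun b => diagonal_le_group hc (torus_mem_diagonal hc hM _)
  let el : List Bool → ↥(D.group F) := fun l => ⟨tB D T F (bitsOf D l), hmem _⟩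
  have hord : ∀ l, (∃ j, bitsOf D l j = true) → orderOf (el l) = 2 := by
    intro l ⟨j, hj⟩
    refine orderOf_eq_prime ?_ fun h => ?_
    · apply Subtype.ext
      rw [pow_two, Subgroup.coe_mul, Subgroup.coe_one]
      show tB D T F _ * tB D T F _ = 1
      rw [tB, ← map_mul, signChar_mul_self, map_one]
    · have h' : tB D T F (bitsOf D l) = 1 := congrArg Subtype.val h
      rw [tB, ← map_one (torus D T F)] at h'
      have h3 := (signChar_eq_one_iff h2 _).1 (torus_injective hc h') j
      rw [hj] at h3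
      exact Bool.noConfusion h3
  have hcent : ∀ l, Nat.card (Subgroup.centralizer ({el l} : Set ↥(D.group F))) =
      Nat.card {g : GL D.Idx F // g ∈ D.group F ∧ tB D T F (bitsOf D l) * g = g * tB D T F (bitsOf D l)} := by
    intro l
    refine Nat.card_congr ⟨fun g => ⟨g.1.1, g.1.2, congrArg Subtype.val (Subgroup.mem_centralizer_singleton_iff.1 g.2).symm⟩,
      fun g => ⟨⟨g.1, g.2.1⟩, Subgroup.mem_centralizer_singleton_iff.2 (Subtype.ext g.2.2.symm)⟩, fun g => rfl, fun g => rfl⟩
  refine ⟨el l₁, el l₂, hord _ hl₁, hord _ hl₂, fun hconj => hn ?_, fun u hu => ?_, ?_, ?_⟩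
  · obtain ⟨g, hg⟩ := isConj_iff.1 hconj
    rw [← h₁, ← h₂, ← hcent, ← hcent, ← hg]
    refine Nat.card_congr ((MulAut.conj g).toEquiv.subtypeEquiv fun x => ?_)
    rw [Subgroup.mem_centralizer_singleton_iff, Subgroup.mem_centralizer_singleton_iff]
    simp only [MulEquiv.toEquiv_eq_coe, EquivLike.coe_coe, MulAut.conj_apply]
    constructor
    · intro h
      calc g * x * g⁻¹ * (g * el l₁ * g⁻¹) = g * (x * el l₁) * g⁻¹ := by group
        _ = g * (el l₁ * x) * g⁻¹ := by rw [h]
        _ = g * el l₁ * g⁻¹ * (g * x * g⁻¹) := by group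
    · intro h
      have h' : g * (x * el l₁) * g⁻¹ = g * (el l₁ * x) * g⁻¹ := by
        calc g * (x * el l₁) * g⁻¹ = g * x * g⁻¹ * (g * el l₁ * g⁻¹) := by group
          _ = _ := by rw [h]; group
      exact mul_left_cancel (mul_right_cancel h')
  · have hu' : (u : GL D.Idx F) * u = 1 := by
      rw [← Subgroup.coe_mul, ← sq, ← hu, pow_orderOf_eq_one, Subgroup.coe_one]
    have hu1 : (u : GL D.Idx F) ≠ 1 := fun h => by
      rw [show u = 1 from Subtype.ext h, orderOf_one] at hu; norm_num at hu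
    obtain ⟨b, ⟨j, hj⟩, hub⟩ := involution_conj hc hcomm hF hO u.2 hu' hu1
    have hbits : bitsOf D (List.ofFn b) = b := funext fun j => by
      simp [bitsOf, List.getD_eq_getElem?_getD]
    have key : ∀ (l : List Bool) (L : List (List Bool × ℕ × ℕ)), TreeOK C D.rank L →
        (L.getD 0 ([], 0, 0)).1 = l → List.ofFn b ∈ L.map Prod.fst → IsConj u (el l) := by
      intro l L hT he hk
      obtain ⟨k, hk', hk''⟩ := List.mem_iff_getElem.1 hk
      rw [List.length_map] at hk'
      have h := gconj_tree hc (F := F) C hC hT k hk'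
      rw [he, List.getD_eq_getElem _ _ hk', show L[k].1 = List.ofFn b by rw [← hk'', List.getElem_map]] at h
      rw [hbits] at h
      obtain ⟨g, hg, e⟩ := hub.trans h.symm
      exact isConj_iff.2 ⟨⟨g, hg⟩, Subtype.ext e⟩
    rcases hreach b with h | h | h
    · rw [h j] at hj; exact Bool.noConfusion hj
    · exact Or.inl (key _ _ hT₁ he₁ h)
    · exact Or.inr (key _ _ hT₂ he₂ h)
  · rw [hcent, h₁]
  · rw [hcent, h₂]

end

end CfsgLib.ChevInvol
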