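import Cfsg.Agent.Lib.ChevInvol.Pairing

/-!
The roots sent to their negatives by an element of the monomial subgroup.
-/

set_option autoImplicit false
set_option linter.unusedSectionVars false

namespace CfsgLib.ChevInvol

open Cfsg.Lie CfsgLib.Chev

variable {D : ChevalleyDatum} {T : Tabs} {F : Type*} [Field F]

/-- `g` permutes the root subgroups as the word `L` permutes the roots -/
def Acts (D : ChevalleyDatum) (T : Tabs) (g : GL D.Idx F) (L : List (Fin D.rank)) : Prop :=
  ∀ r, r < D.nroots → ∃ c : Fˣ, ∀ t : F, g * elX D F r t * g⁻¹ = elX D F (sigs D T L r) ((c : F) * t)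

/-- `g` sends the root elements of `r` to those of the negative root with the factor `c`, and back -/
def Swap (D : ChevalleyDatum) (g : GL D.Idx F) (r : ℕ) (c : Fˣ) : Prop :=
  (∀ t : F, g * elX D F r t * g⁻¹ = elX D F (D.neg r) ((c : F) * t)) ∧
    ∀ t : F, g * elX D F (D.neg r) t * g⁻¹ = elX D F r (((c⁻¹ : Fˣ) : F) * t)

/-- the roots sent to their negatives -/
noncomputable def negSet (D : ChevalleyDatum) (T : Tabs) (L : List (Fin D.rank)) : Finset (Fin D.nroots) :=
  Finset.univ.filter fun r => sigs D T L r.val = D.neg r.val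

theorem mem_negSet {L : List (Fin D.rank)} {r : Fin D.nroots} :
    r ∈ negSet D T L ↔ sigs D T L r.val = D.neg r.val := by
  unfold negSet
  exact Finset.mem_filter.trans (and_iff_right (Finset.mem_univ r))

section
variable (hc : Checked D T)
include hc

theorem exists_acts {m : GL D.Idx F} (hm : m ∈ D.monomialSubgroup F) : ∃ L, Acts D T m L := by
  obtain ⟨h, hh, L, rfl⟩ := monomial_cases hc hm
  refine ⟨L, fun r hr => ?_⟩
  obtain ⟨c, -, hL⟩ := nProd_conj_elX hc (F := F) L hr
  obtain ⟨d, hd⟩ := diagonal_conj_elX hc hh (sigs_lt hc L hr)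
  exact ⟨d * c, fun t => by
    rw [show h * nProd D F L * elX D F r t * (h * nProd D F L)⁻¹ =
      h * (nProd D F L * elX D F r t * (nProd D F L)⁻¹) * h⁻¹ by group, hL, hd, Units.val_mul, mul_assoc]⟩

theorem acts_torus (χ : Fin D.rank → Fˣ) : Acts D T (torus D T F χ) [] := fun r hr =>
  ⟨chi χ (rv D T r), fun t => torus_conj_elX hc χ hr t⟩

theorem Acts.mul {g g' : GL D.Idx F} {L L' : List (Fin D.rank)} (h : Acts D T g L) (h' : Acts D T g' L') :
    Acts D T (g * g') (L ++ L') := by
  intro r hr
  obtain ⟨c', e'⟩ := h' r hr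
  obtain ⟨c, e⟩ := h _ (sigs_lt hc L' hr)
  exact ⟨c * c', fun t => by
    rw [show g * g' * elX D F r t * (g * g')⁻¹ = g * (g' * elX D F r t * g'⁻¹) * g⁻¹ by group, e', e, sigs_append,
      Units.val_mul, mul_assoc]⟩

theorem Acts.unique {g : GL D.Idx F} {L L' : List (Fin D.rank)} (h : Acts D T g L) (h' : Acts D T g L') {r : ℕ}
    (hr : r < D.nroots) : sigs D T L r = sigs D T L' r := by
  obtain ⟨c, e⟩ := h r hr
  obtain ⟨c', e'⟩ := h' r hr
  exact elX_root_unique hc (sigs_lt hc L hr) (sigs_lt hc L' hr) (s := (c : F) * 1) (u := (c' : F) * 1) (by simp)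
    ((e 1).symm.trans (e' 1))

/-- the square of a square root of a torus element fixes all roots -/
theorem Acts.involutive {g : GL D.Idx F} {L : List (Fin D.rank)} {ψ : Fin D.rank → Fˣ} (h : Acts D T g L)
    (hsq : g * g = torus D T F ψ) {r : ℕ} (hr : r < D.nroots) : sigs D T L (sigs D T L r) = r := by
  have h1 := h.mul hc h
  rw [hsq] at h1
  have := h1.unique hc (acts_torus hc ψ) hr
  rwa [sigs_append] at this

theorem Acts.exists_swap {g : GL D.Idx F} {L : List (Fin D.rank)} {ψ : Fin D.rank → Fˣ} (h : Acts D T g L)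
    (hsq : g * g = torus D T F ψ) {r : ℕ} (hr : r < D.nroots) (hψ : chi ψ (rv D T r) = 1)
    (hneg : sigs D T L r = D.neg r) : ∃ c : Fˣ, Swap D g r c := by
  obtain ⟨c, e⟩ := h r hr
  rw [hneg] at e
  refine ⟨c, e, fun t => ?_⟩
  have h1 := e (((c⁻¹ : Fˣ) : F) * t)
  rw [← mul_assoc, ← Units.val_mul, mul_inv_cancel, Units.val_one, one_mul] at h1
  rw [← h1, show g * (g * elX D F r (((c⁻¹ : Fˣ) : F) * t) * g⁻¹) * g⁻¹ =
    (g * g) * elX D F r (((c⁻¹ : Fˣ) : F) * t) * (g * g)⁻¹ by group, hsq, torus_conj_elX hc ψ hr, hψ,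
    Units.val_one, one_mul]

theorem exists_acts_elN {r : ℕ} (hr : r < D.nroots) (t : Fˣ) :
    ∃ L, Acts D T (elN D F r (t : F)) L ∧
      ∀ s, s < D.nroots → rv D T (sigs D T L s) = rr D T r (rv D T s) := by
  obtain ⟨σ, hf, hσ⟩ := exists_flip_elN hc (F := F) hr
  obtain ⟨L, hL, -⟩ := exists_refl_word hc hr
  refine ⟨L, fun s hs => ?_, hL⟩
  obtain ⟨hs', c, hcc, e⟩ := hf s hs
  have hσs : σ s = sigs D T L s := rv_inj hc hs' (sigs_lt hc L hs) (by rw [hσ s hs, hL s hs])
  have hc0 : c ≠ 0 := by rcases hcc with rfl | rfl <;> simp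
  refine ⟨chi (corChar D T r t) (rv D T (σ s)) * Units.mk0 c hc0, fun u => ?_⟩
  rw [elN_eq_mul hc hr t, show ∀ a b x : GL D.Idx F, a * b * x * (a * b)⁻¹ = a * (b * x * b⁻¹) * a⁻¹ from
    fun a b x => by group, (e u).1, torus_conj_elX hc _ hs', hσs, Units.val_mul, Units.val_mk0, mul_assoc]

/-- composing with a reflection in a negated root negates fewer roots -/
theorem negSet_reflect {L M : List (Fin D.rank)} {r : ℕ} (hr : r < D.nroots)
    (hM : ∀ s, s < D.nroots → rv D T (sigs D T M s) = rr D T r (rv D T s))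
    (hinv : ∀ s, s < D.nroots → sigs D T L (sigs D T L s) = s) (hneg : sigs D T L r = D.neg r)
    {s : ℕ} (hs : s < D.nroots) (h : sigs D T (M ++ L) s = D.neg s) :
    sigs D T L s = D.neg s ∧ s ≠ r ∧ s ≠ D.neg r := by
  have hL := sigs_lt hc L hs (T := T)
  have hW : refls D L (rv D T r) = -rv D T r := by rw [← rv_sigs hc L hr, hneg, rv_neg hc hr]
  have h1 : rr D T r (refls D L (rv D T s)) = -rv D T s := by
    rw [← rv_sigs hc L hs, ← hM _ hL, ← sigs_append, h, rv_neg hc hs]
  have h2 : refls D L (rv D T s) = -rv D T s + pv D T r (rv D T s) • rv D T r := by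
    rw [← rr_rr hc hr (refls D L (rv D T s)), h1, rr, pv_neg_vec]; module
  have h3 : refls D L (refls D L (rv D T s)) = rv D T s := by
    rw [← rv_sigs hc L hs, ← rv_sigs hc L hL, hinv s hs]
  rw [h2, refls_add, refls_smul, hW, ← neg_one_smul ℤ (rv D T s), refls_smul, h2] at h3
  have h4 : (2 * pv D T r (rv D T s)) • rv D T r = 0 := by
    have h5 := sub_eq_zero.2 h3
    rw [← neg_eq_zero, ← h5]; module
  have hP : pv D T r (rv D T s) = 0 := by
    rcases smul_eq_zero.1 h4 with h | h
    · omega
    · exact absurd h (rv_ne_zero hc hr)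
  refine ⟨rv_inj hc hL (neg_lt hc hs) ?_, ?_, ?_⟩
  · rw [rv_sigs hc L hs, h2, hP, zero_smul, add_zero, rv_neg hc hs]
  · rintro rfl; rw [pv_self hc hr] at hP; omega
  · rintro rfl; rw [rv_neg hc hr, pv_neg_vec, pv_self hc hr] at hP; omega

theorem negSet_reflect_card {L M : List (Fin D.rank)} {r : ℕ} (hr : r < D.nroots)
    (hM : ∀ s, s < D.nroots → rv D T (sigs D T M s) = rr D T r (rv D T s))
    (hinv : ∀ s, s < D.nroots → sigs D T L (sigs D T L s) = s) (hneg : sigs D T L r = D.neg r) :
    (negSet D T (M ++ L)).card < (negSet D T L).card := by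
  refine Finset.card_lt_card ⟨fun s hs => ?_, fun h => ?_⟩
  · rw [mem_negSet] at hs ⊢
    exact (negSet_reflect hc hr hM hinv hneg s.2 hs).1
  · have h1 := h (mem_negSet.2 hneg : (⟨r, hr⟩ : Fin D.nroots) ∈ negSet D T L)
    rw [mem_negSet] at h1
    exact (negSet_reflect hc hr hM hinv hneg hr h1).2.1 rfl

/-- an involutive word negating no root fixes every root -/
theorem sigs_id_of_negSet_empty {L : List (Fin D.rank)}
    (hinv : ∀ s, s < D.nroots → sigs D T L (sigs D T L s) = s) (hneg : negSet D T L = ∅) {r : ℕ}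
    (hr : r < D.nroots) : sigs D T L r = r := by
  classical
  suffices key : ∀ d, ∀ L : List (Fin D.rank), (invSet D (wfun D T L)).card = d →
      (∀ s, s < D.nroots → sigs D T L (sigs D T L s) = s) → negSet D T L = ∅ →
      ∀ r, r < D.nroots → sigs D T L r = r from key _ L rfl hinv hneg r hr
  intro d
  induction d using Nat.strong_induction_on with
  | _ d ih =>
    intro L hd hinv hneg
    by_cases hall : ∀ i : Fin D.rank, D.nroots / 2 ≤ sigs D T L (D.simple i.val)
    · exact fun r hr => sigs_id_of_pos hc hall hr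
    push Not at hall
    obtain ⟨i, hi⟩ := hall
    have hp := simple_lt hc i.2
    have hhp := half_le_simple hc i.2 (D := D)
    have h2 := nroots_eq_two_mul hc
    set p := D.simple i.val with hpdef
    have hne : ∀ s, s < D.nroots → sigs D T L s ≠ D.neg s := fun s hs h => by
      have := mem_negSet (T := T) (r := ⟨s, hs⟩).2 h
      rw [hneg] at this; simp at this
    set L' := i :: L ++ [i] with hL'
    have hσ' : ∀ s, sigs D T L' s = sig D T i (sigs D T L (sig D T i s)) := fun s => by
      rw [hL', sigs_append]; rfl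
    have hinv' : ∀ s, s < D.nroots → sigs D T L' (sigs D T L' s) = s := fun s hs => by
      rw [hσ', hσ', sig_sig hc i (sigs_lt hc L (sig_lt hc i hs)), hinv _ (sig_lt hc i hs), sig_sig hc i hs]
    have hneg' : negSet D T L' = ∅ := by
      rw [Finset.eq_empty_iff_forall_notMem]
      intro s hs
      rw [mem_negSet, hσ'] at hs
      apply hne _ (sig_lt hc i s.2)
      have h' := congrArg (sig D T i) hs
      rwa [sig_sig hc i (sigs_lt hc L (sig_lt hc i s.2)), sig_neg hc i s.2] at h'
    -- the image of the negative of the fundamental root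
    set q := sigs D T L p with hq
    have hqn := sigs_lt hc L hp (T := T)
    have hqp : q ≠ D.neg p := hne p hp
    have hlt : (invSet D (wfun D T L')).card < (invSet D (wfun D T L)).card := by
      have hsub : invSet D (wfun D T L') ⊆ ((invSet D (wfun D T L)).erase ⟨p, hp⟩).image
          fun s : Fin D.nroots => (⟨sig D T i s.val, sig_lt hc i s.2⟩ : Fin D.nroots) := by
        intro s hs
        rw [mem_invSet, hσ'] at hs
        obtain ⟨hs1, hs2⟩ := hs
        have hsp : s.val ≠ p := by
          intro e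
          rw [e, sig_simple hc, sigs_neg hc L hp, ← hq] at hs2
          have h3 := sig_neg_of_neg hc i hqn hi hqp
          have h4 := sig_lt hc i hqn (T := T)
          rw [sig_neg hc i hqn, neg_eq hc h4] at hs2
          omega
        obtain ⟨h3, h4⟩ := sig_pos hc i s.2 hs1 hsp
        refine Finset.mem_image.2 ⟨⟨sig D T i s, sig_lt hc i s.2⟩, Finset.mem_erase.2
          ⟨fun e => h4 (congrArg Fin.val e), mem_invSet.2 ⟨h3, ?_⟩⟩, Fin.ext (sig_sig hc i s.2)⟩
        by_contra hge
        have hu := sigs_lt hc L (sig_lt hc i s.2 (T := T)) (T := T)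
        by_cases e : sigs D T L (sig D T i s) = p
        · have h5 := congrArg (sigs D T L) e
          rw [hinv _ (sig_lt hc i s.2)] at h5
          rw [h5] at h3
          omega
        · have := (sig_pos hc i hu (by simpa using hge) e).1
          omega
      refine lt_of_le_of_lt ((Finset.card_le_card hsub).trans Finset.card_image_le) (Finset.card_erase_lt_of_mem ?_)
      exact mem_invSet.2 ⟨hhp, hi⟩
    have hid := ih _ (hd ▸ hlt) L' rfl hinv' hneg'
    exfalso
    have h6 := hid _ (sig_lt hc i hp)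
    rw [hσ', sig_sig hc i hp] at h6
    have h7 := congrArg (sig D T i) h6
    rw [sig_sig hc i (sigs_lt hc L hp), sig_sig hc i hp] at h7
    omega

end

end CfsgLib.ChevInvol
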