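import Cfsg.Agent.Lib.ChevInvol.ToTorus

/-!
A finite certificate for the parity property of orthogonal sets of roots.
-/

set_option autoImplicit false
set_option linter.unusedSectionVars false

namespace CfsgLib.ChevInvol

open Cfsg.Lie CfsgLib.Chev

variable {D : ChevalleyDatum} {T : Tabs}

/-- representatives of sets of orthogonal roots, the extensions that are excluded, and the moves -/
abbrev OrthData := List (List ℕ × List (ℕ × ℕ) × List (ℕ × List ℕ × ℕ))

/-- a word from a list of numbers -/
def toWord (D : ChevalleyDatum) (l : List ℕ) : List (Fin D.rank) :=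
  l.filterMap fun i => if h : i < D.rank then some ⟨i, h⟩ else none

/-- the root `γ` excludes the set `R` -/
def KillOK (D : ChevalleyDatum) (T : Tabs) (R : List ℕ) (γ : ℕ) : Prop :=
  γ < D.nroots ∧
    (2 : ℤ) • rv D T γ = (R.map fun a => pv D T a (rv D T γ) • rv D T a).sum ∧
    ∃ a ∈ R, ¬ Even (pv D T a (rv D T γ)) ∨ ¬ Even (pv D T γ (rv D T a))

/-- the word moves the set `R` into `R'` -/
def MoveOK (D : ChevalleyDatum) (T : Tabs) (R : List ℕ) (w : List ℕ) (R' : List ℕ) : Prop :=
  R'.length = R.length ∧ ∀ a ∈ R, posRoot D (sigs D T (toWord D w) a) ∈ R'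

/-- the check of one extension of a representative -/
def ExtOK (D : ChevalleyDatum) (T : Tabs) (C : OrthData) (R : List ℕ) (K : List (ℕ × ℕ))
    (M : List (ℕ × List ℕ × ℕ)) (b : ℕ) : Prop :=
  b ∈ R ∨ (∃ a ∈ R, ¬ Even (pv D T a (rv D T b)) ∨ ¬ Even (pv D T b (rv D T a))) ∨
    ((∀ a ∈ R, pv D T a (rv D T b) = 0 ∧ pv D T b (rv D T a) = 0) ∧
      ((∃ e ∈ K, e.1 = b ∧ KillOK D T (b :: R) e.2) ∨
        ∃ e ∈ M, e.1 = b ∧ e.2.2 < C.length ∧ MoveOK D T (b :: R) e.2.1 ((C.getD e.2.2 ([], [], [])).1)))

/-- the certificate -/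
def OrthOK (D : ChevalleyDatum) (T : Tabs) (C : OrthData) : Prop :=
  (C.getD 0 ([], [], [])).1 = [] ∧ 0 < C.length ∧ ∀ x ∈ C,
    (x.1 = [] ∨ ∃ j : Fin D.rank, ¬ Even (x.1.map fun a => pv D T a (Pi.single j 1)).sum) ∧
      ∀ b : Fin D.nroots, D.nroots / 2 ≤ b.val → ExtOK D T C x.1 x.2.1 x.2.2 b.val

theorem even_sum_congr {ι : Type*} (l : List ι) (f g : ι → ℤ) (h : ∀ a ∈ l, Even (f a) ↔ Even (g a)) :
    Even (l.map f).sum ↔ Even (l.map g).sum := by
  induction l with
  | nil => simp
  | cons a l ih =>
    simp only [List.map_cons, List.sum_cons, Int.even_add]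
    rw [h a List.mem_cons_self, ih fun b hb => h b (List.mem_cons_of_mem _ hb)]

section
variable (hc : Checked D T)
include hc

theorem eq_or_neg_of_posRoot_eq {x y : ℕ} (hx : x < D.nroots) (hy : y < D.nroots)
    (h : posRoot D x = posRoot D y) : x = y ∨ x = D.neg y := by
  unfold posRoot at h
  split_ifs at h
  · exact Or.inl h
  · exact Or.inr h
  · exact Or.inr (by rw [← h, neg_neg_root hc hx])
  · exact Or.inl (by rw [← neg_neg_root hc hx, h, neg_neg_root hc hy])

theorem posRoot_sigs (M : List (Fin D.rank)) {x : ℕ} (hx : x < D.nroots) :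
    posRoot D (sigs D T M (posRoot D x)) = posRoot D (sigs D T M x) := by
  rcases Nat.lt_or_ge x (D.nroots / 2) with h | h
  · rw [show posRoot D x = D.neg x from if_neg (by omega), sigs_neg hc M hx, posRoot_neg hc (sigs_lt hc M hx)]
  · rw [posRoot_of_pos hc h]

theorem even_pv_posRoot {x : ℕ} (hx : x < D.nroots) (v : Fin D.rank → ℤ) :
    Even (pv D T (posRoot D x) v) ↔ Even (pv D T x v) := by
  unfold posRoot
  split
  · rfl
  · rw [pv_neg hc hx, even_neg]

theorem pv_posRoot_posRoot {x y : ℕ} (hx : x < D.nroots) (hy : y < D.nroots) :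
    pv D T (posRoot D x) (rv D T (posRoot D y)) = pv D T x (rv D T y) ∨
      pv D T (posRoot D x) (rv D T (posRoot D y)) = -pv D T x (rv D T y) := by
  unfold posRoot
  split <;> split <;> simp only [pv_neg hc hx, rv_neg hc hy, pv_neg_vec, neg_neg, true_or, or_true]

theorem pv_sigs_sigs (L : List (Fin D.rank)) {x y : ℕ} (hx : x < D.nroots) (hy : y < D.nroots) :
    pv D T (sigs D T L x) (rv D T (sigs D T L y)) = pv D T x (rv D T y) := by
  rw [rv_sigs hc L hy, pv_sigs hc L hx]

theorem orthProp_of_ok {C : OrthData} (hC : OrthOK D T C) : OrthProp D T := by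
  classical
  intro S hnd hne hpos heven hcl
  obtain ⟨h0, hlen, hok⟩ := hC
  let im : List (Fin D.rank) → ℕ → ℕ := fun L a => posRoot D (sigs D T L a)
  let Q : (Fin D.rank → ℤ) → Prop := fun v => ∃ c : ℕ → ℤ, v = (S.map fun a => c a • rv D T a).sum
  have Qadd : ∀ v w, Q v → Q w → Q (v + w) := by
    rintro v w ⟨c, rfl⟩ ⟨d, rfl⟩
    refine ⟨c + d, ?_⟩
    rw [← List.sum_toFinset _ hnd, ← List.sum_toFinset _ hnd, ← List.sum_toFinset _ hnd, ← Finset.sum_add_distrib]
    exact Finset.sum_congr rfl fun a _ => by rw [Pi.add_apply, add_smul]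
  have Qsmul : ∀ (k : ℤ) v, Q v → Q (k • v) := by
    rintro k v ⟨c, rfl⟩
    refine ⟨k • c, ?_⟩
    rw [← List.sum_toFinset _ hnd, ← List.sum_toFinset _ hnd, Finset.smul_sum]
    exact Finset.sum_congr rfl fun a _ => by rw [Pi.smul_apply, smul_eq_mul, mul_smul]
  have Qmem : ∀ a ∈ S, Q (rv D T a) := by
    intro a ha
    refine ⟨fun b => if b = a then 1 else 0, ?_⟩
    rw [← List.sum_toFinset _ hnd, Finset.sum_eq_single a (fun b _ hb => by simp [hb])
      (fun h => absurd (List.mem_toFinset.2 ha) h)]
    simp
  have Qzero : Q 0 := ⟨0, by rw [← List.sum_toFinset _ hnd]; simp⟩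
  have key : ∀ pre : List ℕ, pre.Nodup → (∀ a ∈ pre, a ∈ S) →
      (∀ a ∈ pre, ∀ b ∈ pre, a ≠ b → pv D T a (rv D T b) = 0) ∧
        ∃ L : List (Fin D.rank), ∃ x ∈ C, (pre.map (im L)).Perm x.1 := by
    intro pre
    induction pre with
    | nil =>
      intro _ _
      refine ⟨by simp, [], C.getD 0 ([], [], []), ?_, ?_⟩
      · rw [List.getD_eq_getElem _ _ hlen]; exact List.getElem_mem hlen
      · rw [h0]; rfl
    | cons b pre ih =>
      intro hnd' hsub
      rw [List.nodup_cons] at hnd'
      obtain ⟨hzero, L, x, hx, hperm⟩ := ih hnd'.2 fun a ha => hsub a (List.mem_cons_of_mem _ ha)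
      obtain ⟨hbp, hbn⟩ := hpos b (hsub b List.mem_cons_self)
      have hLb := sigs_lt hc L hbn (T := T)
      set b' := im L b with hb'
      obtain ⟨hb'p, hb'n⟩ := posRoot_pos hc hLb
      have hinj : ∀ a ∈ S, ∀ c ∈ S, ∀ M : List (Fin D.rank), im M a = im M c → a = c := by
        intro a ha c hc' M h
        obtain ⟨ha1, ha2⟩ := hpos a ha
        obtain ⟨hc1, hc2⟩ := hpos c hc'
        rcases eq_or_neg_of_posRoot_eq hc (sigs_lt hc M ha2) (sigs_lt hc M hc2) h with e | e
        · exact sigs_injOn hc M ha2 hc2 e
        · rw [← sigs_neg hc M hc2] at e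
          have := sigs_injOn hc M ha2 (neg_lt hc hc2) e
          rw [neg_eq hc hc2] at this
          have := nroots_eq_two_mul hc; omega
      have hmemx : ∀ a' ∈ x.1, ∃ a ∈ pre, im L a = a' := fun a' ha' => by
        obtain ⟨a, ha, e⟩ := List.mem_map.1 (hperm.mem_iff.2 ha'); exact ⟨a, ha, e⟩
      have hbR : b' ∉ x.1 := by
        intro h
        obtain ⟨a, ha, e⟩ := hmemx _ h
        have := hinj a (hsub a (List.mem_cons_of_mem _ ha)) b (hsub b List.mem_cons_self) L e
        exact hnd'.1 (this ▸ ha)
      -- pairings with the representative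
      have htr : ∀ a ∈ S, ∀ c ∈ S, pv D T (im L a) (rv D T (im L c)) = pv D T a (rv D T c) ∨
          pv D T (im L a) (rv D T (im L c)) = -pv D T a (rv D T c) := by
        intro a ha c hc'
        obtain ⟨-, ha2⟩ := hpos a ha
        obtain ⟨-, hc2⟩ := hpos c hc'
        rw [← pv_sigs_sigs hc L ha2 hc2]
        exact pv_posRoot_posRoot hc (sigs_lt hc L ha2) (sigs_lt hc L hc2)
      rcases (hok x hx).2 ⟨b', hb'n⟩ hb'p with h | ⟨a', ha', h⟩ | ⟨hz, hkm⟩
      · exact absurd h hbR
      · obtain ⟨a, ha, rfl⟩ := hmemx _ ha'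
        have haS := hsub a (List.mem_cons_of_mem _ ha)
        have hbS := hsub b List.mem_cons_self
        exfalso
        rcases h with h | h
        · change ¬ Even (pv D T (im L a) (rv D T (im L b))) at h
          rcases htr a haS b hbS with e | e <;> rw [e] at h
          · exact h (heven a haS b hbS)
          · exact h (heven a haS b hbS).neg
        · change ¬ Even (pv D T (im L b) (rv D T (im L a))) at h
          rcases htr b hbS a haS with e | e <;> rw [e] at h
          · exact h (heven b hbS a haS)
          · exact h (heven b hbS a haS).neg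
      · have hpz : ∀ a ∈ pre, pv D T a (rv D T b) = 0 ∧ pv D T b (rv D T a) = 0 := by
          intro a ha
          have haS := hsub a (List.mem_cons_of_mem _ ha)
          have hbS := hsub b List.mem_cons_self
          obtain ⟨h1, h2⟩ := hz (im L a) (hperm.mem_iff.1 (List.mem_map.2 ⟨a, ha, rfl⟩))
          constructor
          · rcases htr a haS b hbS with e | e <;> rw [← hb', h1] at e <;> omega
          · rcases htr b hbS a haS with e | e <;> rw [← hb', h2] at e <;> omega
        refine ⟨?_, ?_⟩
        · intro a ha c hc' hac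
          rcases List.mem_cons.1 ha with e1 | ha <;> rcases List.mem_cons.1 hc' with e2 | hc'
          · exact absurd (e1.trans e2.symm) hac
          · rw [e1]; exact (hpz c hc').2
          · rw [e2]; exact (hpz a ha).1
          · exact hzero a ha c hc' hac
        have hback : ∀ a' ∈ b' :: x.1, ∃ a ∈ b :: pre, im L a = a' := by
          intro a' ha'
          rcases List.mem_cons.1 ha' with rfl | ha'
          · exact ⟨b, List.mem_cons_self, rfl⟩
          · obtain ⟨a, ha, e⟩ := hmemx _ ha'; exact ⟨a, List.mem_cons_of_mem _ ha, e⟩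
        rcases hkm with ⟨e, -, heb, hγn, hγ, a', ha', hodd⟩ | ⟨e, -, heb, het, hlen', hmv⟩
        · -- an excluded set
          exfalso
          set γ := e.2
          set γ₀ := sigs D T L.reverse γ
          have hγ₀n : γ₀ < D.nroots := sigs_lt hc L.reverse hγn
          have hQ : Q ((2 : ℤ) • rv D T γ₀) := by
            rw [rv_sigs hc L.reverse hγn, ← refls_smul, hγ]
            have hl : ∀ l : List ℕ, (∀ a ∈ l, a ∈ b' :: x.1) →
                Q (refls D L.reverse (l.map fun a => pv D T a (rv D T γ) • rv D T a).sum) := by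
              intro l hl
              induction l with
              | nil => simpa [refls_zero] using Qzero
              | cons a l ihl =>
                rw [List.map_cons, List.sum_cons, refls_add, refls_smul]
                refine Qadd _ _ (Qsmul _ _ ?_) (ihl fun c hc' => hl c (List.mem_cons_of_mem _ hc'))
                obtain ⟨a₀, ha₀, rfl⟩ := hback a (hl a List.mem_cons_self)
                obtain ⟨-, ha2⟩ := hpos a₀ (hsub a₀ ha₀)
                rcases posRoot_cases hc (sigs_lt hc L ha2) with h | h <;>
                  rw [show im L a₀ = posRoot D (sigs D T L a₀) from rfl, h, rv_sigs hc L ha2]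
                · rw [refls_reverse hc]; exact Qmem _ (hsub a₀ ha₀)
                · rw [← neg_one_smul ℤ (refls D L _), refls_smul, refls_reverse hc]
                  exact Qsmul _ _ (Qmem _ (hsub a₀ ha₀))
            exact hl _ fun a ha => ha
          have hg := hcl γ₀ hγ₀n hQ
          obtain ⟨a₀, ha₀, rfl⟩ := hback a' ha'
          have ha₀S := hsub a₀ ha₀
          obtain ⟨-, ha2⟩ := hpos a₀ ha₀S
          have hLγ : sigs D T L γ₀ = γ := by
            have := sigs_reverse hc L.reverse hγn
            rwa [List.reverse_reverse] at this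
          have e1 : Even (pv D T (im L a₀) (rv D T γ)) := by
            rw [even_pv_posRoot hc (sigs_lt hc L ha2), ← hLγ, pv_sigs_sigs hc L ha2 hγ₀n]
            have h := heven a₀ ha₀S _ hg
            rcases posRoot_cases hc hγ₀n with h' | h' <;> rw [h'] at h
            · exact h
            · rwa [pv_neg_vec, even_neg] at h
          have e2 : Even (pv D T γ (rv D T (im L a₀))) := by
            have h := heven _ hg a₀ ha₀S
            rw [even_pv_posRoot hc hγ₀n, ← pv_sigs_sigs hc L hγ₀n ha2, hLγ] at h
            rcases posRoot_cases hc (sigs_lt hc L ha2) with h' | h' <;>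
              rw [show im L a₀ = posRoot D (sigs D T L a₀) from rfl, h']
            · exact h
            · rwa [pv_neg_vec, even_neg]
          rcases hodd with h | h
          exacts [h e1, h e2]
        · -- a move
          set M := toWord D e.2.1
          refine ⟨M ++ L, C.getD e.2.2 ([], [], []), ?_, ?_⟩
          · rw [List.getD_eq_getElem _ _ het]; exact List.getElem_mem het
          · have him : ∀ a ∈ b :: pre, im (M ++ L) a = posRoot D (sigs D T M (im L a)) := fun a ha => by
              show posRoot D (sigs D T (M ++ L) a) = _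
              rw [sigs_append, posRoot_sigs hc M (sigs_lt hc L (hpos a (hsub a ha)).2)]
            refine List.Subperm.perm_of_length_le ((List.Nodup.map_on (fun a ha c hc' h =>
              hinj a (hsub a ha) c (hsub c hc') _ h) (List.nodup_cons.2 hnd')).subperm ?_) ?_
            · intro z hz'
              obtain ⟨a, ha, rfl⟩ := List.mem_map.1 hz'
              rw [him a ha]
              refine hmv _ ?_
              rcases List.mem_cons.1 ha with rfl | ha
              · exact List.mem_cons_self
              · exact List.mem_cons_of_mem _ (hperm.mem_iff.1 (List.mem_map.2 ⟨a, ha, rfl⟩))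
            · rw [hlen']
              simp only [List.length_map, List.length_cons, ← hperm.length_eq, le_refl]
  obtain ⟨hzero, L, x, hx, hperm⟩ := key S hnd fun a ha => ha
  refine ⟨hzero, ?_⟩
  rcases (hok x hx).1 with h | ⟨j, hj⟩
  · rw [h, List.perm_nil, List.map_eq_nil_iff] at hperm
    exact absurd hperm hne
  · refine ⟨refls D L.reverse (Pi.single j 1), fun h => hj ?_⟩
    rw [← (hperm.map _).sum_eq, List.map_map]
    refine (even_sum_congr S _ _ fun a ha => ?_).2 h
    obtain ⟨-, ha2⟩ := hpos a ha
    show Even (pv D T (posRoot D (sigs D T L a)) (Pi.single j 1)) ↔ _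
    rw [even_pv_posRoot hc (sigs_lt hc L ha2), ← pv_sigs hc L ha2 (refls D L.reverse (Pi.single j 1))]
    have := refls_reverse hc L.reverse (Pi.single j (1 : ℤ))
    rw [List.reverse_reverse] at this
    rw [this]

end

end CfsgLib.ChevInvol
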