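import Cfsg.Agent.Lib.ChevInvol.Pairing
import Cfsg.Agent.Lib.ChevInvol.ToMonomial
import Cfsg.Agent.Lib.ChevCent.WeylAct
import Cfsg.Agent.Lib.ChevField.Main

/-!
Torus elements with values `±1` on the fundamental roots, and their orbits under the Weyl group.
-/

set_option autoImplicit false
set_option linter.unusedSectionVars false

namespace CfsgLib.ChevInvol

open Cfsg.Lie CfsgLib.Chev

variable {D : ChevalleyDatum} {T : Tabs} {F : Type*} [Field F]

/-- the sum of the coordinates selected by `b` -/
def bsum (D : ChevalleyDatum) (b : Fin D.rank → Bool) (v : Fin D.rank → ℤ) : ℤ :=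
  ∑ j, if b j = true then v j else 0

/-- the character with value `-1` where `b` holds -/
def signChar (D : ChevalleyDatum) (F : Type*) [Field F] (b : Fin D.rank → Bool) : Fin D.rank → Fˣ :=
  fun j => if b j = true then -1 else 1

/-- a vector of bits from a list -/
def bitsOf (D : ChevalleyDatum) (l : List Bool) : Fin D.rank → Bool := fun j => l.getD j.val false

theorem bsum_sub_smul (b : Fin D.rank → Bool) (k : ℤ) (v w : Fin D.rank → ℤ) :
    bsum D b (v - k • w) = bsum D b v - k * bsum D b w := by
  simp only [bsum, Finset.mul_sum, ← Finset.sum_sub_distrib]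
  exact Finset.sum_congr rfl fun j _ => by split <;> simp

theorem bsum_neg (b : Fin D.rank → Bool) (v : Fin D.rank → ℤ) : bsum D b (-v) = -bsum D b v := by
  simp only [bsum, ← Finset.sum_neg_distrib]
  exact Finset.sum_congr rfl fun j _ => by split <;> simp

theorem chi_signChar (b : Fin D.rank → Bool) (v : Fin D.rank → ℤ) :
    chi (signChar D F b) v = (-1 : Fˣ) ^ bsum D b v := by
  rw [bsum, ← prod_zpow_sum]
  exact Finset.prod_congr rfl fun j _ => by unfold signChar; split <;> simp

theorem neg_one_units_ne (h2 : (2 : F) ≠ 0) : (-1 : Fˣ) ≠ 1 := fun h => by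
  have := congrArg Units.val h
  simp only [Units.val_neg, Units.val_one] at this
  exact h2 (by linear_combination -this)

theorem neg_one_zpow_eq_one_iff (h2 : (2 : F) ≠ 0) (n : ℤ) : (-1 : Fˣ) ^ n = 1 ↔ Even n := by
  refine ⟨fun h => ?_, fun h => h.neg_one_zpow⟩
  rcases Int.even_or_odd n with g | g
  · exact g
  · rw [g.neg_one_zpow] at h; exact absurd h (neg_one_units_ne h2)

theorem chi_signChar_eq_one_iff (h2 : (2 : F) ≠ 0) (b : Fin D.rank → Bool) (v : Fin D.rank → ℤ) :
    chi (signChar D F b) v = 1 ↔ Even (bsum D b v) := by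
  rw [chi_signChar, neg_one_zpow_eq_one_iff h2]

theorem chi_signChar_congr (b : Fin D.rank → Bool) {v w : Fin D.rank → ℤ}
    (h : Even (bsum D b v) ↔ Even (bsum D b w)) : chi (signChar D F b) v = chi (signChar D F b) w := by
  rw [chi_signChar, chi_signChar]
  rcases Int.even_or_odd (bsum D b v) with g | g
  · rw [g.neg_one_zpow, (h.1 g).neg_one_zpow]
  · have g' : Odd (bsum D b w) := Int.not_even_iff_odd.1 fun h' => Int.not_even_iff_odd.2 g (h.2 h')
    rw [g.neg_one_zpow, g'.neg_one_zpow]

theorem signChar_mul_self (b : Fin D.rank → Bool) : signChar D F b * signChar D F b = 1 := by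
  funext j
  simp only [Pi.mul_apply, signChar, Pi.one_apply]
  split <;> simp

theorem signChar_eq_one_iff (h2 : (2 : F) ≠ 0) (b : Fin D.rank → Bool) :
    signChar D F b = 1 ↔ ∀ j, b j = false := by
  refine ⟨fun h j => ?_, fun h => funext fun j => by simp [signChar, h j]⟩
  have := congrFun h j
  by_contra hb
  simp only [signChar, Bool.not_eq_false] at hb this
  rw [if_pos hb] at this
  exact neg_one_units_ne h2 this

/-- the action of a fundamental reflection on a vector of bits -/
def actB (C : List (List ℤ)) (n i : ℕ) (l : List Bool) : List Bool :=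
  (List.range n).map fun j => xor (l.getD j false) (l.getD i false && decide (gz (C.getD i []) j % 2 = 1))

/-- a tree of vectors, each after the first obtained from an earlier one by a fundamental reflection -/
def TreeOK (C : List (List ℤ)) (n : ℕ) (L : List (List Bool × ℕ × ℕ)) : Prop :=
  ∀ k : ℕ, k < L.length → k = 0 ∨ ((L.getD k ([], 0, 0)).2.1 < k ∧ (L.getD k ([], 0, 0)).2.2 < n ∧
    (L.getD k ([], 0, 0)).1 = actB C n (L.getD k ([], 0, 0)).2.2 (L.getD (L.getD k ([], 0, 0)).2.1 ([], 0, 0)).1)

section
variable (hc : Checked D T)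
include hc

theorem torus_mem_diagonal {M : Fin D.rank → Fin D.rank → ℤ} (hM : ChevField.CartanInv D M)
    (χ : Fin D.rank → Fˣ) : torus D T F χ ∈ D.diagonalSubgroup F := by
  obtain ⟨c, rfl⟩ := ChevField.hPar_surjective (F := F) hM χ
  exact (mem_diagonal hc).2 ⟨c, rfl⟩

theorem gconj_tree (C : List (List ℤ)) (hC : ∀ i k : Fin D.rank, gz (C.getD i.val []) k.val = cm D i k)
    {L : List (List Bool × ℕ × ℕ)} (hL : TreeOK C D.rank L) :
    ∀ k, k < L.length → GConj D (torus D T F (signChar D F (bitsOf D (L.getD 0 ([], 0, 0)).1)))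
      (torus D T F (signChar D F (bitsOf D (L.getD k ([], 0, 0)).1))) := by
  intro k
  induction k using Nat.strong_induction_on with
  | _ k ih =>
    intro hk
    rcases hL k hk with rfl | ⟨ha, hi, he⟩
    · exact GConj.refl _
    · rw [he]
      set y := (L.getD (L.getD k ([], 0, 0)).2.1 ([], 0, 0)).1
      set i := (L.getD k ([], 0, 0)).2.2
      refine (ih _ ha (ha.trans hk)).trans ⟨elN D F (D.simple i) 1, elN_mem_group hc (simple_lt hc hi) 1, ?_⟩
      rw [nOne_conj_torus hc ⟨i, hi⟩]
      congr 1
      funext j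
      rw [reflChar, chi_signChar, CfsgLib.Chev.refl]
      have e : bsum D (bitsOf D y) ((Pi.single j 1 : Fin D.rank → ℤ) -
          Pi.single (⟨i, hi⟩ : Fin D.rank) (∑ k, cm D ⟨i, hi⟩ k * (Pi.single j 1 : Fin D.rank → ℤ) k)) =
          (if bitsOf D y j = true then 1 else 0) - (if bitsOf D y ⟨i, hi⟩ = true then cm D ⟨i, hi⟩ j else 0) := by
        rw [Finset.sum_eq_single j (fun k _ hk => by rw [Pi.single_eq_of_ne hk, mul_zero]) (by simp),
          Pi.single_eq_same, mul_one]
        simp only [bsum, Pi.sub_apply, Pi.single_apply]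
        rw [show (fun k : Fin D.rank => if bitsOf D y k = true then
            ((if k = j then (1 : ℤ) else 0) - if k = ⟨i, hi⟩ then cm D ⟨i, hi⟩ j else 0) else 0) = fun k =>
            (if k = j then (if bitsOf D y k = true then (1 : ℤ) else 0) else 0) -
              (if k = ⟨i, hi⟩ then (if bitsOf D y k = true then cm D ⟨i, hi⟩ j else 0) else 0) from
            funext fun k => by split_ifs <;> simp, Finset.sum_sub_distrib, Finset.sum_ite_eq', Finset.sum_ite_eq']
        simp
      rw [e]
      have hb : bitsOf D (actB C D.rank i y) j =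
          xor (bitsOf D y j) (bitsOf D y ⟨i, hi⟩ && decide (cm D ⟨i, hi⟩ j % 2 = 1)) := by
        simp [bitsOf, actB, ← hC ⟨i, hi⟩ j]
      rw [signChar, hb]
      rcases Int.even_or_odd (cm D ⟨i, hi⟩ j) with g | g
      · have h0 : ¬ cm D ⟨i, hi⟩ j % 2 = 1 := by rw [Int.even_iff] at g; omega
        rw [decide_eq_false h0, Bool.and_false, Bool.xor_false]
        cases bitsOf D y j <;> cases bitsOf D y ⟨i, hi⟩ <;> simp [g.neg_one_zpow, zpow_sub, zpow_neg]
      · have h1 : cm D ⟨i, hi⟩ j % 2 = 1 := Int.odd_iff.1 g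
        rw [decide_eq_true h1, Bool.and_true]
        cases bitsOf D y j <;> cases bitsOf D y ⟨i, hi⟩ <;> simp [g.neg_one_zpow, zpow_sub, zpow_neg]

end

end CfsgLib.ChevInvol
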