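import Cfsg.Agent.Lib.Chev.Order
import Mathlib.GroupTheory.Perm.Basic

/-!
The length generating function of a group of permutations of the roots of a subsystem, computed along a chain
of parabolic subgroups by enumerating the orbits of fundamental coweights.
-/

set_option autoImplicit false
set_option linter.unusedSectionVars false

namespace CfsgLib.ChevInvol

open CfsgLib.Chev

/-- a root subsystem with a group of permutations in which the fundamental reflections lie and only the identity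
preserves positivity -/
structure SubSys {X : Type*} (Γ : Subgroup (Equiv.Perm X)) (pos : Finset X) (ng : X → X) (n : ℕ)
    (C : List (List ℤ)) where
  /-- the coordinates -/
  co : X → Fin n → ℤ
  /-- the fundamental roots -/
  δ : Fin n → X
  /-- the fundamental reflections -/
  s : Fin n → Equiv.Perm X
  s_mem : ∀ i, s i ∈ Γ
  δ_mem : ∀ i, δ i ∈ pos
  co_δ : ∀ i, co (δ i) = Pi.single i 1
  co_ng : ∀ r ∈ pos, co (ng r) = -co r
  maps : ∀ f ∈ Γ, ∀ r ∈ pos, f r ∈ pos ∨ ∃ u ∈ pos, f r = ng u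
  ng_notMem : ∀ r ∈ pos, ng r ∉ pos
  ng_ng : ∀ r, ng (ng r) = r
  ng_comm : ∀ f ∈ Γ, ∀ r, f (ng r) = ng (f r)
  nonneg : ∀ r ∈ pos, ∀ k, 0 ≤ co r k
  linear : ∀ f ∈ Γ, ∀ r ∈ pos, co (f r) = ∑ k, co r k • co (f (δ k))
  supp : ∀ r ∈ pos, ∀ i, (∀ k, k ≠ i → co r k = 0) → r = δ i
  s_apply : ∀ i k : Fin n, co (s i (δ k)) = Pi.single k 1 - gz (C.getD i.val []) k.val • Pi.single i 1
  diag : ∀ i : Fin n, gz (C.getD i.val []) i.val = 2
  triv : ∀ f ∈ Γ, (∀ r ∈ pos, f r ∈ pos) → f = 1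

namespace SubSys

variable {X : Type*} [Fintype X] [DecidableEq X] {Γ : Subgroup (Equiv.Perm X)} {pos : Finset X} {ng : X → X}
  {n : ℕ} {C : List (List ℤ)} (S : SubSys Γ pos ng n C)

/-- a root of the subsystem -/
def In (pos : Finset X) (ng : X → X) (r : X) : Prop := r ∈ pos ∨ ∃ u ∈ pos, r = ng u

/-- the positive roots sent to negative ones -/
def invS (pos : Finset X) (f : Equiv.Perm X) : Finset X := pos.filter fun r => f r ∉ pos

theorem mem_invS [DecidableEq X] {f : Equiv.Perm X} {r : X} : r ∈ invS pos f ↔ r ∈ pos ∧ f r ∉ pos := by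
  unfold invS
  exact Finset.mem_filter

theorem invS_one [DecidableEq X] : invS pos (1 : Equiv.Perm X) = ∅ := by
  rw [Finset.eq_empty_iff_forall_notMem]
  intro r hr
  exact (mem_invS.1 hr).2 (mem_invS.1 hr).1

theorem perm_apply_inv (f : Equiv.Perm X) (r : X) : f (f⁻¹ r) = r := f.apply_symm_apply r

include S

theorem maps_in {f : Equiv.Perm X} (hf : f ∈ Γ) {r : X} (hr : In pos ng r) : In pos ng (f r) := by
  rcases hr with hr | ⟨u, hu, rfl⟩
  · exact S.maps f hf r hr
  · rw [S.ng_comm f hf]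
    rcases S.maps f hf u hu with h | ⟨w, hw, e⟩
    · exact Or.inr ⟨_, h, rfl⟩
    · exact Or.inl (by rw [e, S.ng_ng]; exact hw)

theorem ng_in {r : X} (hr : In pos ng r) : In pos ng (ng r) := by
  rcases hr with hr | ⟨u, hu, rfl⟩
  · exact Or.inr ⟨r, hr, rfl⟩
  · exact Or.inl (by rwa [S.ng_ng])

theorem linear_in {f : Equiv.Perm X} (hf : f ∈ Γ) {r : X} (hr : In pos ng r) :
    S.co (f r) = ∑ k, S.co r k • S.co (f (S.δ k)) := by
  rcases hr with hr | ⟨u, hu, rfl⟩
  · exact S.linear f hf r hr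
  · have hneg : S.co (f (ng u)) = -S.co (f u) := by
      rw [S.ng_comm f hf]
      rcases S.maps f hf u hu with h | ⟨w, hw, e⟩
      · exact S.co_ng _ h
      · rw [e, S.ng_ng, S.co_ng w hw, neg_neg]
    rw [hneg, S.linear f hf u hu, S.co_ng u hu, ← Finset.sum_neg_distrib]
    exact Finset.sum_congr rfl fun k _ => by rw [Pi.neg_apply, neg_smul]

theorem δ_in (i : Fin n) : In pos ng (S.δ i) := Or.inl (S.δ_mem i)

theorem pos_of_coord {r : X} (hr : In pos ng r) {k : Fin n} (h : 0 < S.co r k) : r ∈ pos := by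
  rcases hr with hr | ⟨u, hu, rfl⟩
  · exact hr
  · rw [S.co_ng u hu, Pi.neg_apply] at h
    have := S.nonneg u hu k
    omega

theorem co_ne_zero {r : X} (hr : r ∈ pos) (i : Fin n) : S.co r ≠ 0 := fun h => by
  have e := S.supp r hr i fun k _ => by rw [h]; rfl
  have h1 := congrFun h i
  rw [e, S.co_δ, Pi.single_eq_same, Pi.zero_apply] at h1
  omega

theorem pos_of_nonneg (i : Fin n) {r : X} (hr : In pos ng r) (h : ∀ k, 0 ≤ S.co r k) : r ∈ pos := by
  rcases hr with hr | ⟨u, hu, rfl⟩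
  · exact hr
  · refine absurd (funext fun k => ?_) (S.co_ne_zero hu i)
    have h1 := h k
    rw [S.co_ng u hu, Pi.neg_apply] at h1
    have := S.nonneg u hu k
    show S.co u k = 0
    omega

/-- an element without inversions among the fundamental roots is trivial -/
theorem eq_one_of_simple {f : Equiv.Perm X} (hf : f ∈ Γ) (h : ∀ k, f (S.δ k) ∈ pos) (i : Fin n) : f = 1 := by
  refine S.triv f hf fun r hr => S.pos_of_nonneg i (S.maps f hf r hr) fun l => ?_
  rw [S.linear f hf r hr, Finset.sum_apply]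
  exact Finset.sum_nonneg fun k _ => mul_nonneg (S.nonneg r hr k) (S.nonneg _ (h k) l)

theorem co_s (i : Fin n) {r : X} (hr : In pos ng r) {k : Fin n} (hk : k ≠ i) :
    S.co (S.s i r) k = S.co r k := by
  rw [S.linear_in (S.s_mem i) hr, Finset.sum_apply, Finset.sum_eq_single k]
  · rw [Pi.smul_apply, S.s_apply, Pi.sub_apply, Pi.single_eq_same, Pi.smul_apply, Pi.single_eq_of_ne hk]
    simp
  · intro l _ hl
    rw [Pi.smul_apply, S.s_apply, Pi.sub_apply, Pi.single_eq_of_ne (Ne.symm hl), Pi.smul_apply,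
      Pi.single_eq_of_ne hk]
    simp
  · simp

theorem s_δ (i : Fin n) : S.s i (S.δ i) = ng (S.δ i) := by
  have hco : S.co (S.s i (S.δ i)) = -Pi.single i 1 := by
    rw [S.s_apply, S.diag]; module
  rcases S.maps _ (S.s_mem i) _ (S.δ_mem i) with h | ⟨u, hu, e⟩
  · have h1 := S.nonneg _ h i
    rw [hco, Pi.neg_apply, Pi.single_eq_same] at h1
    omega
  · rw [e, S.co_ng u hu, neg_inj] at hco
    rw [e, S.supp u hu i fun k hk => by rw [hco, Pi.single_eq_of_ne hk]]

theorem s_pos (i : Fin n) {r : X} (hr : r ∈ pos) (hne : r ≠ S.δ i) : S.s i r ∈ pos ∧ S.s i r ≠ S.δ i := by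
  obtain ⟨k, hk, hpos⟩ : ∃ k, k ≠ i ∧ S.co r k ≠ 0 := by
    by_contra h
    push Not at h
    exact hne (S.supp r hr i h)
  have h1 : 0 < S.co (S.s i r) k := by
    rw [S.co_s i (Or.inl hr) hk]; have := S.nonneg r hr k; omega
  refine ⟨S.pos_of_coord (S.maps_in (S.s_mem i) (Or.inl hr)) h1, fun e => ?_⟩
  rw [e, S.co_δ, Pi.single_eq_of_ne hk] at h1
  omega

theorem s_sq (i : Fin n) : S.s i * S.s i = 1 := by
  refine S.triv _ (mul_mem (S.s_mem i) (S.s_mem i)) fun r hr => ?_
  rw [Equiv.Perm.mul_apply]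
  by_cases h : r = S.δ i
  · rw [h, S.s_δ, S.ng_comm _ (S.s_mem i), S.s_δ, S.ng_ng]; exact S.δ_mem i
  · exact (S.s_pos i (S.s_pos i hr h).1 (S.s_pos i hr h).2).1

theorem s_s (i : Fin n) (r : X) : S.s i (S.s i r) = r := by
  rw [← Equiv.Perm.mul_apply, S.s_sq]; rfl

/-- right multiplication by a fundamental reflection raising the length -/
theorem invS_mul_up {f : Equiv.Perm X} (hf : f ∈ Γ) {i : Fin n} (h : f (S.δ i) ∈ pos) :
    (invS pos (f * S.s i)).card = (invS pos f).card + 1 := by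
  have e : invS pos (f * S.s i) = insert (S.δ i) ((invS pos f).image (S.s i)) := by
    ext r
    simp only [mem_invS, Finset.mem_insert, Finset.mem_image, Equiv.Perm.mul_apply]
    constructor
    · rintro ⟨hr, hn⟩
      by_cases e : r = S.δ i
      · exact Or.inl e
      · exact Or.inr ⟨S.s i r, ⟨(S.s_pos i hr e).1, hn⟩, S.s_s i r⟩
    · rintro (rfl | ⟨u, ⟨hu, hun⟩, rfl⟩)
      · refine ⟨S.δ_mem i, ?_⟩
        rw [S.s_δ, S.ng_comm f hf]
        exact S.ng_notMem _ h
      · have hne : u ≠ S.δ i := fun e => hun (e ▸ h)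
        exact ⟨(S.s_pos i hu hne).1, by rwa [S.s_s]⟩
  rw [e, Finset.card_insert_of_notMem, Finset.card_image_of_injective _ (S.s i).injective]
  intro hmem
  obtain ⟨u, hu, e'⟩ := Finset.mem_image.1 hmem
  rw [mem_invS] at hu
  exact (S.s_pos i hu.1 (fun e => hu.2 (e ▸ h))).2 e'

theorem invS_mul_down {f : Equiv.Perm X} (hf : f ∈ Γ) {i : Fin n} (h : f (S.δ i) ∉ pos) :
    (invS pos (f * S.s i)).card + 1 = (invS pos f).card := by
  have h' : (f * S.s i) (S.δ i) ∈ pos := by
    rw [Equiv.Perm.mul_apply, S.s_δ, S.ng_comm f hf]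
    rcases S.maps f hf _ (S.δ_mem i) with g | ⟨u, hu, e⟩
    · exact absurd g h
    · rw [e, S.ng_ng]; exact hu
  have := S.invS_mul_up (mul_mem hf (S.s_mem i)) h'
  rw [mul_assoc, S.s_sq, mul_one] at this
  omega

/-- the elements fixing the coweights outside `J` -/
def sub (J : List (Fin n)) : Subgroup (Equiv.Perm X) where
  carrier := {f | f ∈ Γ ∧ ∀ k, k ∉ J → ∀ r, In pos ng r → S.co (f r) k = S.co r k}
  one_mem' := ⟨one_mem _, fun _ _ _ _ => rfl⟩
  mul_mem' := by
    rintro f g ⟨hf, hf'⟩ ⟨hg, hg'⟩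
    exact ⟨mul_mem hf hg, fun k hk r hr => by rw [Equiv.Perm.mul_apply, hf' k hk _ (S.maps_in hg hr), hg' k hk r hr]⟩
  inv_mem' := by
    rintro f ⟨hf, hf'⟩
    refine ⟨inv_mem hf, fun k hk r hr => ?_⟩
    have h := hf' k hk (f⁻¹ r) (S.maps_in (inv_mem hf) hr)
    rw [perm_apply_inv] at h
    exact h.symm

theorem s_mem_sub {J : List (Fin n)} {i : Fin n} (hi : i ∈ J) : S.s i ∈ S.sub J :=
  ⟨S.s_mem i, fun k hk r hr => S.co_s i hr fun e => hk (e ▸ hi)⟩

open Classical in
/-- the length generating function of a parabolic subgroup -/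
noncomputable def wsumS (J : List (Fin n)) (x : ℕ) : ℕ :=
  ∑ f ∈ Finset.univ.filter (fun f => f ∈ S.sub J), x ^ (invS pos f).card

theorem wsumS_nil (i : Fin n) (x : ℕ) : S.wsumS [] x = 1 := by
  classical
  have e : (Finset.univ.filter fun f => f ∈ S.sub []) = {1} := by
    ext f
    rw [Finset.mem_filter, Finset.mem_singleton]
    refine ⟨fun h => S.eq_one_of_simple h.2.1 (fun k => ?_) i, fun h => ⟨Finset.mem_univ _, h ▸ one_mem _⟩⟩
    refine S.pos_of_coord (S.maps_in h.2.1 (S.δ_in k)) (k := k) ?_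
    rw [h.2.2 k (List.not_mem_nil) _ (S.δ_in k), S.co_δ, Pi.single_eq_same]
    exact one_pos
  rw [wsumS, e, Finset.sum_singleton, invS_one]
  simp

open Classical in
theorem wsumS_full {J : List (Fin n)} (hJ : ∀ i, i ∈ J) (x : ℕ) :
    S.wsumS J x = ∑ f ∈ Finset.univ.filter (fun f => f ∈ Γ), x ^ (invS pos f).card := by
  refine Finset.sum_congr ?_ fun _ _ => rfl
  ext f
  simp only [Finset.mem_filter, Finset.mem_univ, true_and]
  exact ⟨fun h => h.1, fun h => ⟨h, fun k hk => absurd (hJ k) hk⟩⟩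

/-- the coordinates of the images of the fundamental roots at `j` -/
def vec (j : Fin n) (f : Equiv.Perm X) : List ℤ := List.ofFn fun k => S.co (f (S.δ k)) j

theorem gz_vec (j : Fin n) (f : Equiv.Perm X) (a : Fin n) : gz (S.vec j f) a.val = S.co (f (S.δ a)) j := by
  rw [vec, gz, List.getD_eq_getElem?_getD]
  simp

theorem vec_mul (j : Fin n) {f : Equiv.Perm X} (hf : f ∈ Γ) (i : Fin n) :
    S.vec j (f * S.s i) = actv C n i.val (S.vec j f) := by
  apply List.ext_getElem (by simp [vec, actv])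
  intro a h1 h2
  have ha : a < n := by simpa [vec] using h1
  simp only [actv, List.getElem_map, List.getElem_range]
  rw [gz_vec S j f i, show gz (S.vec j f) a = gz (S.vec j f) (⟨a, ha⟩ : Fin n).val from rfl, gz_vec]
  simp only [vec, List.getElem_ofFn, Equiv.Perm.mul_apply]
  rw [S.linear_in hf (S.maps_in (S.s_mem i) (S.δ_in _)), S.s_apply, Finset.sum_apply]
  simp only [Pi.smul_apply, Pi.sub_apply, smul_eq_mul, sub_mul, Finset.sum_sub_distrib, Pi.single_apply, ite_mul,
    one_mul, zero_mul, mul_assoc, Finset.sum_ite_eq', Finset.mem_univ, if_true, mul_ite, mul_one, mul_zero]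

theorem vec_one (j : Fin n) : S.vec j 1 = (List.range n).map fun k => if k = j.val then 1 else 0 := by
  apply List.ext_getElem (by simp [vec])
  intro a h1 h2
  simp [vec, S.co_δ, Pi.single_apply, Fin.ext_iff, eq_comm]

/-- representatives of cosets from the levels of the orbit -/
theorem level_spec {J J' : List (Fin n)} {j : Fin n} (hjJ' : j ∉ J') :
    ∀ k v, v ∈ level C n (J.map Fin.val) j.val k → ∃ g ∈ S.sub J, S.vec j g = v ∧ (invS pos g).card = k ∧
      ∀ a ∈ J', g⁻¹ (S.δ a) ∈ pos := by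
  intro k
  induction k with
  | zero =>
    intro v hv
    rw [level, List.mem_singleton] at hv
    refine ⟨1, one_mem _, by rw [S.vec_one, hv], by rw [invS_one]; rfl, fun a _ => ?_⟩
    rw [inv_one]; exact S.δ_mem a
  | succ k ih =>
    intro v hv
    rw [level, upLevel, foldr_addNew_mem, List.mem_flatMap] at hv
    obtain ⟨u, hu, hv⟩ := hv
    obtain ⟨i0, hi0, rfl⟩ := List.mem_map.1 hv
    rw [List.mem_filter, decide_eq_true_eq] at hi0
    obtain ⟨i, hiJ, rfl⟩ := List.mem_map.1 hi0.1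
    obtain ⟨g, hg, rfl, hcard, hmin⟩ := ih u hu
    have hcpos := hi0.2
    rw [S.gz_vec] at hcpos
    have hgi : g (S.δ i) ∈ pos := S.pos_of_coord (S.maps_in hg.1 (S.δ_in i)) hcpos
    refine ⟨g * S.s i, mul_mem hg (S.s_mem_sub hiJ), S.vec_mul j hg.1 i, by rw [S.invS_mul_up hg.1 hgi, hcard],
      fun a ha => ?_⟩
    rw [mul_inv_rev, Equiv.Perm.mul_apply, inv_eq_of_mul_eq_one_right (S.s_sq i)]
    refine (S.s_pos i (hmin a ha) fun e => ?_).1
    rw [← e, perm_apply_inv, S.co_δ, Pi.single_eq_of_ne (fun h : j = a => hjJ' (h ▸ ha))] at hcpos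
    exact lt_irrefl _ hcpos

theorem cover {J : List (Fin n)} (j : Fin n) (hjJ : j ∈ J) (all : List (List ℤ))
    (hone : S.vec j 1 ∈ all) (hcl : ∀ v ∈ all, ∀ i ∈ J, actv C n i.val v ∈ all) :
    ∀ f, f ∈ S.sub J → S.vec j f ∈ all := by
  suffices key : ∀ d f, f ∈ S.sub J → (invS pos f).card = d → S.vec j f ∈ all from fun f hf => key _ f hf rfl
  intro d
  induction d using Nat.strong_induction_on with
  | _ d ih =>
    intro f hf hd
    by_cases h : ∀ k, f (S.δ k) ∈ pos
    · rw [S.eq_one_of_simple hf.1 h j]; exact hone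
    push Not at h
    obtain ⟨i, hi⟩ := h
    have hiJ : i ∈ J := by
      by_contra hh
      apply hi
      refine S.pos_of_coord (S.maps_in hf.1 (S.δ_in i)) (k := i) ?_
      rw [hf.2 i hh _ (S.δ_in i), S.co_δ, Pi.single_eq_same]
      exact one_pos
    have hdown := S.invS_mul_down hf.1 hi
    have h1 := ih _ (by omega) (f * S.s i) (mul_mem hf (S.s_mem_sub hiJ)) rfl
    have h2 := hcl _ h1 i hiJ
    rwa [← S.vec_mul j (mul_mem hf.1 (S.s_mem i)), mul_assoc, S.s_sq, mul_one] at h2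

/-- lengths add up -/
theorem invS_add (i₀ : Fin n) {J' : List (Fin n)} {a g : Equiv.Perm X} (ha : a ∈ S.sub J') (hg : g ∈ Γ)
    (hmin : ∀ b ∈ J', g⁻¹ (S.δ b) ∈ pos) :
    (invS pos (a * g)).card = (invS pos a).card + (invS pos g).card := by
  have hsupp : ∀ r, In pos ng r → (∀ k, 0 ≤ S.co r k) → (∀ k, k ∉ J' → S.co r k = 0) → ∀ i : Fin n,
      g⁻¹ r ∈ pos := by
    intro r hr hnn hsup i
    refine S.pos_of_nonneg i (S.maps_in (inv_mem hg) hr) fun l => ?_
    rw [S.linear_in (inv_mem hg) hr, Finset.sum_apply]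
    refine Finset.sum_nonneg fun k _ => ?_
    by_cases hk : k ∈ J'
    · exact mul_nonneg (hnn k) (S.nonneg _ (hmin k hk) l)
    · rw [hsup k hk, zero_smul]; rfl
  have hinva : ∀ r ∈ pos, a r ∉ pos → ∀ k, k ∉ J' → S.co r k = 0 ∧ S.co (a r) k = 0 := by
    intro r hr hn k hk
    have h1 := S.nonneg r hr k
    have h2 := ha.2 k hk r (Or.inl hr)
    have h3 : ¬ 0 < S.co (a r) k := fun h => hn (S.pos_of_coord (S.maps_in ha.1 (Or.inl hr)) h)
    omega
  have e : invS pos (a * g) = invS pos g ∪ (invS pos a).image (g⁻¹ : Equiv.Perm X) := by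
    ext r
    simp only [mem_invS, Finset.mem_union, Finset.mem_image, Equiv.Perm.mul_apply]
    constructor
    · rintro ⟨hr, hn⟩
      by_cases hgr : g r ∈ pos
      · exact Or.inr ⟨g r, ⟨hgr, hn⟩, g.symm_apply_apply r⟩
      · exact Or.inl ⟨hr, hgr⟩
    · rintro (⟨hr, hgr⟩ | ⟨u, ⟨hu, hun⟩, rfl⟩)
      · refine ⟨hr, fun h => ?_⟩
        obtain h' | ⟨u, hu, e⟩ := S.maps g hg r hr
        · exact hgr h'
        have hn : a u ∉ pos := by
          intro h'
          rw [e, S.ng_comm a ha.1] at h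
          exact S.ng_notMem _ h' h
        have h2 := hsupp u (Or.inl hu) (S.nonneg u hu) (fun k hk => (hinva u hu hn k hk).1) i₀
        have h3 : g⁻¹ (ng u) = r := by rw [← e]; exact g.symm_apply_apply r
        rw [S.ng_comm _ (inv_mem hg)] at h3
        rw [← h3] at hr
        exact S.ng_notMem _ h2 hr
      · refine ⟨?_, by rwa [perm_apply_inv]⟩
        exact hsupp u (Or.inl hu) (S.nonneg u hu) (fun k hk => (hinva u hu hun k hk).1) i₀
  rw [e, Finset.card_union_of_disjoint, Finset.card_image_of_injective _ (g⁻¹ : Equiv.Perm X).injective, add_comm]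
  rw [Finset.disjoint_left]
  intro r hr hr'
  obtain ⟨u, hu, rfl⟩ := Finset.mem_image.1 hr'
  rw [mem_invS, perm_apply_inv] at hr
  rw [mem_invS] at hu
  exact hr.2 hu.1

/-- one step down the chain -/
theorem wsumS_step {J J' : List (Fin n)} {j : Fin n} (hJ : J = J' ++ [j]) (hjJ' : j ∉ J') {m : ℕ} (hm : 0 < m)
    (hcheck : orbitCheck C n (J.map Fin.val) j.val m = true) (x : ℕ) :
    S.wsumS J x = (∑ k ∈ Finset.range m, (level C n (J.map Fin.val) j.val k).toFinset.card * x ^ k) *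
      S.wsumS J' x := by
  classical
  set Jn := J.map Fin.val with hJn
  have hjJ : j ∈ J := by rw [hJ]; simp
  have hsub : S.sub J' ≤ S.sub J := fun f hf => ⟨hf.1, fun k hk => hf.2 k fun h => hk (by rw [hJ]; simp [h])⟩
  rw [orbitCheck, Bool.and_eq_true, decide_eq_true_eq] at hcheck
  have hall : (levelList C n Jn m [(List.range n).map fun k => if k = j.val then (1 : ℤ) else 0]).flatten =
      ((List.range m).map (level C n Jn j.val)).flatten := by
    rw [List.range_eq_range' (n := m), ← levelList_eq C n Jn j.val m 0]; rfl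
  simp only [hall] at hcheck
  set all := ((List.range m).map (level C n Jn j.val)).flatten
  obtain ⟨hnd, hcl⟩ := hcheck
  simp only [List.all_eq_true, List.contains_iff_mem] at hcl
  have hmemall : ∀ v, v ∈ all ↔ ∃ k < m, v ∈ level C n Jn j.val k := by
    intro v; simp [all, List.mem_flatten]
  have hdisj : ∀ k < m, ∀ k' < m, ∀ v, v ∈ level C n Jn j.val k → v ∈ level C n Jn j.val k' → k = k' := by
    intro k hk k' hk' v h h'
    by_contra hne
    have hp := (List.nodup_flatten.1 hnd).2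
    rw [List.pairwise_map] at hp
    have hp' := List.pairwise_iff_getElem.1 hp
    rcases Nat.lt_or_gt_of_ne hne with g | g
    · have := hp' k k' (by simpa using hk) (by simpa using hk') g
      simp only [List.getElem_range] at this
      exact this h h'
    · have := hp' k' k (by simpa using hk') (by simpa using hk) g
      simp only [List.getElem_range] at this
      exact this h' h
  have hone : S.vec j 1 ∈ all := (hmemall _).2 ⟨0, hm, by rw [S.vec_one, level]; exact List.mem_singleton.2 rfl⟩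
  have hcov := S.cover (J := J) j hjJ all hone fun v hv i hi => hcl v hv i.val (List.mem_map_of_mem hi)
  choose rep hrep using fun (k : ℕ) (v : {v // v ∈ level C n Jn j.val k}) =>
    S.level_spec (J := J) hjJ' k v.1 v.2
  set Sg := (Finset.range m).sigma fun k => (level C n Jn j.val k).toFinset
  let g : (Σ _ : ℕ, List ℤ) × Equiv.Perm X → Equiv.Perm X := fun a =>
    if h : a.1.2 ∈ level C n Jn j.val a.1.1 then a.2 * rep a.1.1 ⟨a.1.2, h⟩ else 1
  have hSmem : ∀ k v, (⟨k, v⟩ : Σ _ : ℕ, List ℤ) ∈ Sg ↔ k < m ∧ v ∈ level C n Jn j.val k := by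
    intro k v; simp [Sg]
  have hvec : ∀ k v (h : v ∈ level C n Jn j.val k), ∀ a ∈ S.sub J', S.vec j (a * rep k ⟨v, h⟩) = v := by
    intro k v h a ha
    refine Eq.trans ?_ (hrep k ⟨v, h⟩).2.1
    simp only [vec, Equiv.Perm.mul_apply]
    congr 1
    funext l
    exact ha.2 j hjJ' _ (S.maps_in (hrep k ⟨v, h⟩).1.1 (S.δ_in l))
  rw [wsumS, show (∑ k ∈ Finset.range m, (level C n Jn j.val k).toFinset.card * x ^ k) =
    ∑ a ∈ Sg, x ^ a.1 by rw [Finset.sum_sigma]; simp, wsumS, Finset.sum_mul_sum, ← Finset.sum_product']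
  symm
  refine Finset.sum_bij (fun a _ => g a) ?_ ?_ ?_ ?_
  · rintro ⟨⟨k, v⟩, f⟩ ha
    rw [Finset.mem_product, hSmem, Finset.mem_filter] at ha
    obtain ⟨⟨hk, hv⟩, -, hf⟩ := ha
    simp only [g, dif_pos hv, Finset.mem_filter, Finset.mem_univ, true_and]
    exact mul_mem (hsub hf) (hrep k ⟨v, hv⟩).1
  · rintro ⟨⟨k, v⟩, f⟩ ha ⟨⟨k', v'⟩, f'⟩ hb e
    rw [Finset.mem_product, hSmem, Finset.mem_filter] at ha hb
    obtain ⟨⟨hk, hv⟩, -, hf⟩ := ha
    obtain ⟨⟨hk', hv'⟩, -, hf'⟩ := hb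
    simp only [g, dif_pos hv, dif_pos hv'] at e
    have hvv : v = v' := by rw [← hvec k v hv f hf, ← hvec k' v' hv' f' hf', e]
    subst hvv
    obtain rfl := hdisj k hk k' hk' v hv hv'
    rw [mul_right_cancel e]
  · intro f hf
    rw [Finset.mem_filter] at hf
    obtain ⟨k, hk, hv⟩ := (hmemall _).1 (hcov f hf.2)
    obtain ⟨hg0, hvec0, -, -⟩ := hrep k ⟨_, hv⟩
    set g0 := rep k ⟨_, hv⟩
    have hmem : f * g0⁻¹ ∈ S.sub J' := by
      refine ⟨mul_mem hf.2.1 (inv_mem hg0.1), fun l hl r hr => ?_⟩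
      by_cases hlJ : l ∈ J
      · have hlj : l = j := by
          rw [hJ, List.mem_append, List.mem_singleton] at hlJ; tauto
        subst hlj
        have hy := S.maps_in (inv_mem hg0.1) hr
        rw [Equiv.Perm.mul_apply]
        conv_rhs => rw [← perm_apply_inv g0 r]
        rw [S.linear_in hf.2.1 hy, S.linear_in hg0.1 hy, Finset.sum_apply, Finset.sum_apply]
        refine Finset.sum_congr rfl fun t _ => ?_
        simp only [Pi.smul_apply]
        congr 1
        have h1 := congrArg (fun w => gz w t.val) hvec0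
        simp only [S.gz_vec] at h1
        exact h1.symm
      · exact (mul_mem hf.2 (inv_mem hg0)).2 l hlJ r hr
    refine ⟨(⟨k, _⟩, f * g0⁻¹), Finset.mem_product.2 ⟨(hSmem _ _).2 ⟨hk, hv⟩,
      Finset.mem_filter.2 ⟨Finset.mem_univ _, hmem⟩⟩, ?_⟩
    simp only [g, dif_pos hv]
    rw [show rep k ⟨_, hv⟩ = g0 from rfl, inv_mul_cancel_right]
  · rintro ⟨⟨k, v⟩, f⟩ ha
    rw [Finset.mem_product, hSmem, Finset.mem_filter] at ha
    obtain ⟨⟨hk, hv⟩, -, hf⟩ := ha
    simp only [g, dif_pos hv]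
    rw [S.invS_add j hf (hrep k ⟨v, hv⟩).1.1 (hrep k ⟨v, hv⟩).2.2.2, (hrep k ⟨v, hv⟩).2.2.1, pow_add, mul_comm]

/-- one step, with the level sizes -/
theorem wsumS_step' (J' : List (Fin n)) (j : Fin n) (hj : j ∉ J') {m : ℕ} (hm : 0 < m) (sz : List ℕ)
    (h : (orbitCheck C n ((J' ++ [j]).map Fin.val) j.val m &&
      decide (levelSizes C n ((J' ++ [j]).map Fin.val) j.val m = sz)) = true) (x : ℕ) :
    S.wsumS (J' ++ [j]) x = polyEval sz x * S.wsumS J' x := by
  rw [Bool.and_eq_true, decide_eq_true_eq] at h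
  rw [S.wsumS_step rfl hj hm h.1, level_sum_eq _ _ _ _ _ h.1, h.2]

end SubSys

end CfsgLib.ChevInvol
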