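import Cfsg.Agent.Lib.ChevInvol.Sign
import Cfsg.Agent.Lib.ChevInvol.SubWeyl
import Cfsg.Agent.Lib.ChevInvol.NegRoots

/-!
The roots fixed by a torus involution as a subsystem, from a finite certificate.
-/

set_option autoImplicit false
set_option linter.unusedSectionVars false

namespace CfsgLib.ChevInvol

open Cfsg.Lie CfsgLib.Chev CfsgLib.ChevCent

variable {D : ChevalleyDatum} {T : Tabs}

/-- the positive roots fixed by the torus involution of `b` -/
noncomputable def posB (D : ChevalleyDatum) (T : Tabs) (b : Fin D.rank → Bool) : Finset (Fin D.nroots) :=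
  Finset.univ.filter fun r => D.nroots / 2 ≤ r.val ∧ Even (bsum D b (rv D T r.val))

theorem mem_posB {b : Fin D.rank → Bool} {r : Fin D.nroots} :
    r ∈ posB D T b ↔ D.nroots / 2 ≤ r.val ∧ Even (bsum D b (rv D T r.val)) := by
  unfold posB
  exact Finset.mem_filter.trans (and_iff_right (Finset.mem_univ r))

section
variable (hc : Checked D T)
include hc

/-- the Weyl elements fixing the torus involution of `b` -/
noncomputable def gamB (hc : Checked D T) (b : Fin D.rank → Bool) : Subgroup (Equiv.Perm (Fin D.nroots)) where
  carrier := {π | π ∈ weylGrp hc ∧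
    ∀ r : Fin D.nroots, Even (bsum D b (rv D T (π r).val)) ↔ Even (bsum D b (rv D T r.val))}
  one_mem' := ⟨one_mem _, fun _ => Iff.rfl⟩
  mul_mem' := by
    rintro f g ⟨hf, hf'⟩ ⟨hg, hg'⟩
    exact ⟨mul_mem hf hg, fun r => (hf' (g r)).trans (hg' r)⟩
  inv_mem' := by
    rintro f ⟨hf, hf'⟩
    refine ⟨inv_mem hf, fun r => ?_⟩
    have h := hf' (f⁻¹ r)
    rw [show f (f⁻¹ r) = r from f.apply_symm_apply r] at h
    exact h.symm

theorem rev_eq (r : Fin D.nroots) : (Fin.rev r).val = D.neg r.val := by rw [Fin.val_rev, neg_eq hc r.2]

end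

/-- the scaled coordinates on the fundamental roots of the subsystem -/
def scaled (D : ChevalleyDatum) {n : ℕ} (M : List (List ℤ)) (v : Fin D.rank → ℤ) (k : Fin n) : ℤ :=
  ∑ j : Fin D.rank, v j * gz (M.getD j.val []) k.val

theorem scaled_add {n : ℕ} (M : List (List ℤ)) (v w : Fin D.rank → ℤ) (k : Fin n) :
    scaled D M (v + w) k = scaled D M v k + scaled D M w k := by
  simp [scaled, add_mul, Finset.sum_add_distrib]

theorem scaled_smul {n : ℕ} (M : List (List ℤ)) (c : ℤ) (v : Fin D.rank → ℤ) (k : Fin n) :
    scaled D M (c • v) k = c * scaled D M v k := by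
  simp [scaled, Finset.mul_sum, mul_assoc]

theorem scaled_sum {n : ℕ} {ι : Type*} (s : Finset ι) (M : List (List ℤ)) (v : ι → Fin D.rank → ℤ) (k : Fin n) :
    scaled D M (∑ i ∈ s, v i) k = ∑ i ∈ s, scaled D M (v i) k := by
  simp only [scaled, Finset.sum_apply, Finset.sum_mul]
  exact Finset.sum_comm

/-- injective lists of a given length compatible with a Cartan matrix -/
def autList (C : List (List ℤ)) (n : ℕ) : ℕ → List (List ℕ)
  | 0 => [[]]
  | k + 1 => (autList C n k).flatMap fun l =>
      ((List.range n).filter fun c => !l.contains c && (List.range k).all fun a =>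
        decide (gz (C.getD a []) k = gz (C.getD (l.getD a 0) []) c ∧
          gz (C.getD k []) a = gz (C.getD c []) (l.getD a 0))).map fun c => l ++ [c]

/-- the finite certificate of a subsystem -/
structure SubOK (D : ChevalleyDatum) (T : Tabs) (b : Fin D.rank → Bool) {n : ℕ} (dl : Fin n → Fin D.nroots)
    (C : List (List ℤ)) (M : List (List ℤ)) (d : ℤ) : Prop where
  d_pos : 0 < d
  dl_pos : ∀ k, D.nroots / 2 ≤ (dl k).val ∧ Even (bsum D b (rv D T (dl k).val))
  dl_scaled : ∀ i k, scaled D M (rv D T (dl i).val) k = if i = k then d else 0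
  span : ∀ j l : Fin D.rank, (if j = l then d else 0) =
    ∑ k : Fin n, gz (M.getD j.val []) k.val * rv D T (dl k).val l
  coords : ∀ r : Fin D.nroots, D.nroots / 2 ≤ r.val → Even (bsum D b (rv D T r.val)) →
    (∀ k : Fin n, d ∣ scaled D M (rv D T r.val) k ∧ 0 ≤ scaled D M (rv D T r.val) k) ∧
      ∀ i : Fin n, (∀ k, k ≠ i → scaled D M (rv D T r.val) k = 0) → r = dl i
  cartan : ∀ i k : Fin n, pv D T (dl i).val (rv D T (dl k).val) = gz (C.getD i.val []) k.val
  auts : ∀ l ∈ autList C n n, l = List.range n ∨ ∃ j m : Fin D.rank,
    ¬ d ∣ ∑ k : Fin n, gz (M.getD j.val []) k.val *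
      rv D T (if h : l.getD k.val 0 < n then (dl ⟨l.getD k.val 0, h⟩).val else 0) m

section
variable (hc : Checked D T) {b : Fin D.rank → Bool} {n : ℕ} {dl : Fin n → Fin D.nroots}
  {C : List (List ℤ)} {M : List (List ℤ)} {d : ℤ} (h : SubOK D T b dl C M d)
include hc h

theorem dl_injective : Function.Injective dl := by
  intro i k e
  by_contra hne
  have h1 := h.dl_scaled i k
  rw [if_neg hne, e, h.dl_scaled k k, if_pos rfl] at h1
  exact h.d_pos.ne' h1

theorem eq_sum (v : Fin D.rank → ℤ) : d • v = ∑ k : Fin n, scaled D M v k • rv D T (dl k).val := by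
  funext l
  simp only [Pi.smul_apply, smul_eq_mul, Finset.sum_apply, scaled, Finset.sum_mul, mul_assoc]
  rw [Finset.sum_comm]
  simp only [← Finset.mul_sum, ← h.span, mul_ite, mul_zero, Finset.sum_ite_eq', Finset.mem_univ, if_true]
  exact mul_comm _ _

theorem auts_mem (y : Fin n → Fin n) (hy : Function.Injective y)
    (hC : ∀ a c, gz (C.getD a.val []) c.val = gz (C.getD (y a).val []) (y c).val) :
    List.ofFn (fun k => (y k).val) ∈ autList C n n := by
  suffices key : ∀ k, k ≤ n → (List.ofFn fun k => (y k).val).take k ∈ autList C n k by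
    have h1 := key n le_rfl
    rwa [List.take_of_length_le (by simp)] at h1
  intro k
  induction k with
  | zero => intro _; simp [autList]
  | succ k ih =>
    intro hk
    rw [autList, List.mem_flatMap]
    refine ⟨_, ih (by omega), List.mem_map.2 ⟨(y ⟨k, hk⟩).val, List.mem_filter.2 ⟨List.mem_range.2 (y _).2, ?_⟩, ?_⟩⟩
    · simp only [Bool.and_eq_true, Bool.not_eq_true', List.all_eq_true, List.mem_range, decide_eq_true_eq]
      refine ⟨?_, fun a ha => ?_⟩
      · rw [Bool.eq_false_iff]
        intro hmem
        rw [List.contains_iff_mem, List.mem_iff_getElem] at hmem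
        obtain ⟨a, ha, e⟩ := hmem
        simp only [List.getElem_take, List.getElem_ofFn] at e
        have := hy (Fin.ext e)
        simp [Fin.ext_iff] at this
        simp at ha
        omega
      · have e : ((List.ofFn fun k => (y k).val).take k).getD a 0 = (y ⟨a, by omega⟩).val := by
          rw [List.getD_eq_getElem _ _ (by simp; omega)]
          simp
        rw [e]
        exact ⟨hC ⟨a, by omega⟩ ⟨k, hk⟩, hC ⟨k, hk⟩ ⟨a, by omega⟩⟩
    · rw [List.take_succ_eq_append_getElem (by simp; omega)]
      simp

/-- the subsystem -/
noncomputable def subSys : SubSys (gamB hc b) (posB D T b) Fin.rev n C := by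
  have hd := h.d_pos.ne'
  let co : Fin D.nroots → Fin n → ℤ := fun r k => scaled D M (rv D T r.val) k / d
  have hrev : ∀ r : Fin D.nroots, rv D T (Fin.rev r).val = -rv D T r.val := fun r => by
    rw [rev_eq hc, rv_neg hc r.2]
  have hsn : ∀ v k, scaled D M (-v) k = -scaled D M (n := n) v k := fun v k => by
    rw [← neg_one_smul ℤ v, scaled_smul, neg_one_mul]
  have hmaps : ∀ f ∈ gamB hc b, ∀ r ∈ posB D T b, f r ∈ posB D T b ∨ ∃ u ∈ posB D T b, f r = Fin.rev u := by
    intro f hf r hr
    rw [mem_posB] at hr
    have he := (hf.2 r).2 hr.2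
    by_cases hp : D.nroots / 2 ≤ (f r).val
    · exact Or.inl (mem_posB.2 ⟨hp, he⟩)
    · refine Or.inr ⟨Fin.rev (f r), mem_posB.2 ⟨?_, ?_⟩, (Fin.rev_rev _).symm⟩
      · rw [Fin.val_rev]; have := nroots_eq_two_mul hc; omega
      · rw [hrev, bsum_neg, even_neg]; exact he
  have hlin0 : ∀ f ∈ gamB hc b, ∀ (r : Fin D.nroots) l,
      d * scaled D M (n := n) (rv D T (f r).val) l =
        ∑ k : Fin n, scaled D M (rv D T r.val) k * scaled D M (rv D T (f (dl k)).val) l := by
    intro f hf r l
    obtain ⟨L, rfl⟩ := hf.1
    have hp : ∀ x : Fin D.nroots, rv D T (permOf hc L x).val = refls D L (rv D T x.val) := fun x =>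
      rv_sigs hc L x.2
    have hlin : ∀ (s : Finset (Fin n)) (c : Fin n → ℤ), refls D L (∑ k ∈ s, c k • rv D T (dl k).val) =
        ∑ k ∈ s, c k • refls D L (rv D T (dl k).val) := by
      intro s c
      induction s using Finset.induction_on with
      | empty => simp [refls_zero]
      | @insert a s ha ih => rw [Finset.sum_insert ha, Finset.sum_insert ha, refls_add, refls_smul, ih]
    rw [← scaled_smul, hp, ← refls_smul, eq_sum hc h, hlin, scaled_sum]
    exact Finset.sum_congr rfl fun k _ => by rw [scaled_smul, hp]
  have hdvd : ∀ r, (r ∈ posB D T b ∨ ∃ u ∈ posB D T b, r = Fin.rev u) → ∀ k,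
      d ∣ scaled D M (n := n) (rv D T r.val) k := by
    rintro r (hr | ⟨u, hu, rfl⟩) k
    · rw [mem_posB] at hr; exact ((h.coords r hr.1 hr.2).1 k).1
    · rw [mem_posB] at hu; rw [hrev, hsn, dvd_neg]; exact ((h.coords u hu.1 hu.2).1 k).1
  have hdl : ∀ k, dl k ∈ posB D T b := fun k => mem_posB.2 (h.dl_pos k)
  have hco : ∀ r, (r ∈ posB D T b ∨ ∃ u ∈ posB D T b, r = Fin.rev u) → ∀ k,
      d * co r k = scaled D M (n := n) (rv D T r.val) k := fun r hr k => Int.mul_ediv_cancel' (hdvd r hr k)
  have hex : ∀ i : Fin n, ∃ π ∈ gamB hc b, ∀ s : Fin D.nroots,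
      rv D T (π s).val = rr D T (dl i).val (rv D T s.val) := by
    intro i
    obtain ⟨L, hL, -⟩ := exists_refl_word hc (dl i).2
    refine ⟨permOf hc L, ⟨⟨L, rfl⟩, fun r => ?_⟩, fun s => hL s.val s.2⟩
    rw [show rv D T (permOf hc L r).val = _ from hL r.val r.2, rr, bsum_sub_smul, Int.even_sub]
    simp only [(h.dl_pos i).2.mul_left, iff_true]
  choose sref hsmem hsrv using hex
  exact
    { co := co
      δ := dl
      s := sref
      s_mem := hsmem
      δ_mem := hdl
      co_δ := fun i => funext fun k => by
        show scaled D M (rv D T (dl i).val) k / d = _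
        rw [h.dl_scaled, Pi.single_apply]
        split <;> split <;> first | exact Int.ediv_self hd | exact Int.zero_ediv d | (exfalso; simp_all)
      co_ng := fun r hr => funext fun k => by
        show scaled D M (rv D T (Fin.rev r).val) k / d = -(scaled D M (rv D T r.val) k / d)
        rw [hrev, hsn, Int.neg_ediv_of_dvd (hdvd r (Or.inl hr) k)]
      maps := hmaps
      ng_notMem := fun r hr h' => by
        rw [mem_posB] at hr h'
        rw [Fin.val_rev] at h'
        have := nroots_eq_two_mul hc; omega
      ng_ng := Fin.rev_rev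
      ng_comm := fun f hf r => by
        obtain ⟨L, rfl⟩ := hf.1
        apply Fin.ext
        rw [rev_eq hc]
        show sigs D T L (Fin.rev r).val = D.neg (sigs D T L r.val)
        rw [rev_eq hc, sigs_neg hc L r.2]
      nonneg := fun r hr k => by
        rw [mem_posB] at hr
        exact Int.ediv_nonneg ((h.coords r hr.1 hr.2).1 k).2 h.d_pos.le
      linear := fun f hf r hr => funext fun l => by
        have h1 := hlin0 f hf r l
        rw [← hco _ (hmaps f hf r hr)] at h1
        simp only [← hco r (Or.inl hr), ← hco _ (hmaps f hf _ (hdl _))] at h1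
        rw [Finset.sum_apply]
        simp only [Pi.smul_apply, smul_eq_mul]
        refine mul_left_cancel₀ (mul_ne_zero hd hd) ?_
        rw [mul_assoc, h1, Finset.mul_sum]
        exact Finset.sum_congr rfl fun k _ => by ring
      supp := fun r hr i hz => by
        rw [mem_posB] at hr
        refine (h.coords r hr.1 hr.2).2 i fun k hk => ?_
        rw [← hco r (Or.inl (mem_posB.2 hr)), hz k hk, mul_zero]
      s_apply := fun i k => funext fun l => by
        show scaled D M (rv D T (sref i (dl k)).val) l / d = _
        rw [hsrv, rr, sub_eq_add_neg, ← neg_smul, scaled_add, scaled_smul, h.dl_scaled, h.dl_scaled, h.cartan,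
          Pi.sub_apply, Pi.smul_apply, Pi.single_apply, Pi.single_apply, smul_eq_mul]
        rw [show ((if k = l then d else 0) + -gz (C.getD i.val []) k.val * if i = l then d else 0) =
          d * ((if l = k then (1 : ℤ) else 0) - gz (C.getD i.val []) k.val * if l = i then 1 else 0) by
            simp only [eq_comm (a := k), eq_comm (a := i)]; split_ifs <;> ring, Int.mul_ediv_cancel_left _ hd]
      diag := fun i => by rw [← h.cartan, pv_self hc (dl i).2]
      triv := fun f hf hpos => by
        classical
        -- the images of the fundamental roots are fundamental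
        have hmap : ∀ a : Fin n, ∃ k, f (dl k) = dl a := by
          intro a
          obtain ⟨r, hr, hfr⟩ : ∃ r ∈ posB D T b, f r = dl a := by
            have himg : (posB D T b).image f = posB D T b :=
              Finset.eq_of_subset_of_card_le (Finset.image_subset_iff.2 hpos)
                (by rw [Finset.card_image_of_injective _ f.injective])
            have := hdl a
            rw [← himg] at this
            exact Finset.mem_image.1 this
          have h1 := hlin0 f hf r
          rw [hfr] at h1
          simp only [h.dl_scaled] at h1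
          have hr' := mem_posB.1 hr
          have hfnn : ∀ k l, 0 ≤ scaled D M (n := n) (rv D T (f (dl k)).val) l := fun k l => by
            have := mem_posB.1 (hpos _ (hdl k))
            exact ((h.coords _ this.1 this.2).1 l).2
          have haa := h1 a
          rw [if_pos rfl] at haa
          obtain ⟨k, -, hk⟩ := Finset.exists_ne_zero_of_sum_ne_zero (by rw [← haa]; exact mul_ne_zero hd hd)
          have hck : scaled D M (n := n) (rv D T r.val) k ≠ 0 := left_ne_zero_of_mul hk
          refine ⟨k, ?_⟩
          have hk' := mem_posB.1 (hpos _ (hdl k))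
          refine (h.coords _ hk'.1 hk'.2).2 a fun l hl => ?_
          have hla := h1 l
          rw [if_neg (Ne.symm hl), mul_zero] at hla
          have := (Finset.sum_eq_zero_iff_of_nonneg (fun t _ =>
            mul_nonneg ((h.coords r hr'.1 hr'.2).1 t).2 (hfnn t l))).1 hla.symm k (Finset.mem_univ k)
          exact (mul_eq_zero.1 this).resolve_left hck
        choose kinv hkinv using hmap
        have hkbij : Function.Bijective kinv := Finite.injective_iff_bijective.1 fun a c e =>
          dl_injective hc h (by rw [← hkinv a, ← hkinv c, e])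
        obtain ⟨y, hy⟩ : ∃ y : Fin n → Fin n, ∀ k, f (dl k) = dl (y k) := by
          refine ⟨fun k => Classical.choose (hkbij.2 k), fun k => ?_⟩
          have := Classical.choose_spec (hkbij.2 k)
          rw [← hkinv (Classical.choose (hkbij.2 k)), this]
        have hyinj : Function.Injective y := fun a c e =>
          dl_injective hc h (f.injective (by rw [hy, hy, e]))
        obtain ⟨L, rfl⟩ := hf.1
        have hval : ∀ k, sigs D T L (dl k).val = (dl (y k)).val := fun k => congrArg Fin.val (hy k)
        have hC : ∀ a c, gz (C.getD a.val []) c.val = gz (C.getD (y a).val []) (y c).val := fun a c => by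
          rw [← h.cartan, ← h.cartan, ← hval, ← hval, rv_sigs hc L (dl c).2, pv_sigs hc L (dl a).2]
        have hlin : ∀ (v : Fin D.rank → ℤ), d • refls D L v =
            ∑ k : Fin n, scaled D M v k • rv D T (dl (y k)).val := by
          intro v
          rw [← refls_smul, eq_sum hc h]
          have hl : ∀ (s : Finset (Fin n)) (c : Fin n → ℤ), refls D L (∑ k ∈ s, c k • rv D T (dl k).val) =
              ∑ k ∈ s, c k • refls D L (rv D T (dl k).val) := by
            intro s c
            induction s using Finset.induction_on with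
            | empty => simp [refls_zero]
            | @insert a s ha ih => rw [Finset.sum_insert ha, Finset.sum_insert ha, refls_add, refls_smul, ih]
          rw [hl]
          exact Finset.sum_congr rfl fun k _ => by rw [← rv_sigs hc L (dl k).2, hval]
        rcases h.auts _ (auts_mem hc h y hyinj hC) with hid | ⟨j, m, hnd⟩
        · have hyid : ∀ k, y k = k := fun k => by
            apply Fin.ext
            have := congrArg (fun l : List ℕ => l.getD k.val 0) hid
            simpa [List.getD_eq_getElem?_getD] using this
          have hfix : ∀ j : Fin D.rank, sigs D T L (D.simple j.val) = D.simple j.val := by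
            intro j
            refine rv_inj hc (sigs_lt hc L (simple_lt hc j.2)) (simple_lt hc j.2) ?_
            rw [rv_sigs hc L (simple_lt hc j.2)]
            refine smul_right_injective _ hd ?_
            simp only
            rw [hlin, eq_sum hc h]
            exact Finset.sum_congr rfl fun k _ => by rw [hyid]
          refine Equiv.ext fun r => Fin.ext ?_
          exact sigs_id_of_pos hc (fun i => by rw [hfix i]; exact half_le_simple hc i.2) r.2
        · exfalso
          refine hnd ⟨refls D L (Pi.single j 1) m, ?_⟩
          have e := congrFun (hlin (Pi.single j 1)) m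
          rw [Pi.smul_apply, smul_eq_mul, Finset.sum_apply] at e
          rw [e]
          refine Finset.sum_congr rfl fun k _ => ?_
          have hk : (List.ofFn fun k => (y k).val).getD k.val 0 = (y k).val := by
            rw [List.getD_eq_getElem _ _ (by simp)]; simp
          simp only [hk, dif_pos (y k).2, Pi.smul_apply, smul_eq_mul]
          congr 1
          simp [scaled, Pi.single_apply] }

end

end CfsgLib.ChevInvol
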